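import Cfsg.Agent.Lib.Coprime.Abelian
import Mathlib.Algebra.Group.Action.End
import Mathlib.GroupTheory.GroupAction.Defs

/-! Operator groups on abelian groups: orbit products and the pieces of an elementary abelian
group of operators. -/

set_option autoImplicit false

namespace Cfsg.Agent.Lib.FitHeight

open scoped Pointwise commutatorElement
open Subgroup Cfsg.Agent.Lib.Coprime

variable {Γ : Type*} [Group Γ] {V : Type*} [CommGroup V] [MulDistribMulAction Γ V]

/-- The endomorphism given by a group element. -/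
abbrev act (g : Γ) : V →* V := MulDistribMulAction.toMonoidHom V g

theorem sum_inv_mul_cancel {T : ℕ} {f : ℕ → V} (hT : f T = f 0) :
    ∏ j ∈ Finset.range T, f (j + 1) = ∏ j ∈ Finset.range T, f j := by
  have := Finset.prod_range_succ' f T
  rw [Finset.prod_range_succ, hT] at this
  exact (mul_right_cancel this).symm

/-- The product of the translates of `v` under the powers of `g`. -/
def cycProd (g : Γ) (n : ℕ) (v : V) : V := ∏ i ∈ Finset.range n, g ^ i • v

theorem smul_cycProd {g : Γ} {n : ℕ} (hn : g ^ n = 1) (v : V) :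
    g • cycProd g n v = cycProd g n v := by
  rw [cycProd, Finset.smul_prod']
  simp only [smul_smul, ← pow_succ']
  exact sum_inv_mul_cancel (f := fun i => g ^ i • v) (by simp [hn])

/-- The product over a subgroup of the translates of `v`. -/
noncomputable def orbProd [Finite Γ] (E : Subgroup Γ) (v : V) : V :=
  haveI := Fintype.ofFinite E
  ∏ e : E, (e : Γ) • v

variable [Finite Γ]

theorem orbProd_eq (E : Subgroup Γ) [Fintype E] (v : V) : orbProd E v = ∏ e : E, (e : Γ) • v := by
  rw [orbProd]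
  exact congrArg (fun s : Finset E => ∏ e ∈ s, (e : Γ) • v) (by ext; simp)

theorem smul_orbProd (E : Subgroup Γ) {e : Γ} (he : e ∈ E) (v : V) :
    e • orbProd E v = orbProd E v := by
  have := Fintype.ofFinite E
  simp only [orbProd_eq, Finset.smul_prod']
  refine Fintype.prod_equiv (Equiv.mulLeft (⟨e, he⟩ : E)) _ _ fun x => ?_
  simp [smul_smul]

theorem orbProd_smul_mem (E : Subgroup Γ) {e : Γ} (he : e ∈ E) (v : V) :
    orbProd E (e • v) = orbProd E v := by
  have := Fintype.ofFinite E
  simp only [orbProd_eq]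
  refine Fintype.prod_equiv (Equiv.mulRight (⟨e, he⟩ : E)) _ _ fun x => ?_
  simp [smul_smul]

theorem orbProd_mul (E : Subgroup Γ) (v w : V) : orbProd E (v * w) = orbProd E v * orbProd E w := by
  have := Fintype.ofFinite E
  simp only [orbProd_eq, smul_mul', Finset.prod_mul_distrib]

theorem orbProd_inv (E : Subgroup Γ) (v : V) : orbProd E v⁻¹ = (orbProd E v)⁻¹ := by
  have := Fintype.ofFinite E
  simp only [orbProd_eq, smul_inv', Finset.prod_inv_distrib]

theorem orbProd_pow (E : Subgroup Γ) (v : V) (n : ℕ) : orbProd E (v ^ n) = orbProd E v ^ n := by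
  have := Fintype.ofFinite E
  simp only [orbProd_eq, smul_pow', Finset.prod_pow]

theorem orbProd_of_fixed (E : Subgroup Γ) {v : V} (h : ∀ e ∈ E, e • v = v) :
    orbProd E v = v ^ Nat.card E := by
  have := Fintype.ofFinite E
  simp only [orbProd_eq]
  rw [Finset.prod_congr rfl fun (e : E) _ => h e e.2, Finset.prod_const, Finset.card_univ,
    Nat.card_eq_fintype_card]

theorem orbProd_smul_normalizer (E : Subgroup Γ) {g : Γ} (hg : g ∈ normalizer (E : Set Γ)) (v : V) :
    orbProd E (g • v) = g • orbProd E v := by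
  have := Fintype.ofFinite E
  simp only [orbProd_eq, Finset.smul_prod']
  let φ : E ≃ E :=
    { toFun := fun e => ⟨g⁻¹ * e * g, (mem_normalizer_iff'.mp hg _).mpr (by simp [mul_assoc])⟩
      invFun := fun e => ⟨g * e * g⁻¹, (mem_normalizer_iff.mp hg _).mp e.2⟩
      left_inv := fun e => Subtype.ext (by simp [mul_assoc])
      right_inv := fun e => Subtype.ext (by simp [mul_assoc]) }
  exact Fintype.prod_equiv φ _ _ fun e => by simp [φ, smul_smul, mul_assoc]

theorem eq_one_of_pow_eq_one {v : V} {n : ℕ} (h : v ^ n = 1) (hn : n.Coprime (orderOf v)) : v = 1 :=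
  orderOf_eq_one_iff.mp (Nat.eq_one_of_dvd_coprimes hn (orderOf_dvd_of_pow_eq_one h) dvd_rfl)

theorem pow_injective_of_coprime [Finite V] {n : ℕ} (hn : n.Coprime (Nat.card V)) {v : V}
    (h : v ^ n = 1) : v = 1 :=
  eq_one_of_pow_eq_one h (hn.coprime_dvd_right (orderOf_dvd_natCard v))

omit [Finite Γ] in
theorem card_sup_of_coprime_like [Finite Γ] {A N : Subgroup Γ} (h : A ≤ normalizer (N : Set Γ))
    (hd : A ⊓ N = ⊥) : Nat.card (A ⊔ N : Subgroup Γ) = Nat.card A * Nat.card N := by
  have h1 := card_sup_mul_card_inf_of_le_normalizer h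
  rwa [hd, Subgroup.card_bot, mul_one] at h1

section piece

variable (E K : Subgroup Γ)

/-- The part of `V` fixed by `K` with trivial `E`-product. -/
noncomputable def piece : Subgroup V where
  carrier := {v | (∀ k ∈ K, k • v = v) ∧ orbProd E v = 1}
  one_mem' := ⟨fun k _ => smul_one k, by rw [orbProd_of_fixed E fun e _ => smul_one e, one_pow]⟩
  mul_mem' := fun ha hb => ⟨fun k hk => by rw [smul_mul', ha.1 k hk, hb.1 k hk],
    by rw [orbProd_mul, ha.2, hb.2, one_mul]⟩
  inv_mem' := fun ha => ⟨fun k hk => by rw [smul_inv', ha.1 k hk],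
    by rw [orbProd_inv, ha.2, inv_one]⟩

theorem smul_piece {g : Γ} (hE : g ∈ normalizer (E : Set Γ)) (hK : g ∈ normalizer (K : Set Γ)) {v : V}
    (hv : v ∈ piece E K) : g • v ∈ piece (V := V) E K := by
  refine ⟨fun k hk => ?_, by rw [orbProd_smul_normalizer E hE, hv.2, smul_one]⟩
  have hk' : g⁻¹ * k * g ∈ K := (mem_normalizer_iff'.mp hK _).mpr (by simpa [mul_assoc] using hk)
  have := hv.1 _ hk'
  rw [mul_smul, mul_smul, inv_smul_eq_iff] at this
  exact this

theorem orbProd_piece {v : V} (hv : v ∈ piece E K) : orbProd E v = 1 := hv.2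

/-- A homomorphic image of `E` not contained in a maximal `L ≤ E` fixing `x` has trivial
product at `x`. -/
theorem prod_hom_smul [Finite V] (hcop : (Nat.card E).Coprime (Nat.card V)) (f : E →* E) {L : Subgroup Γ}
    [Fintype E] (hsup : ∀ e ∈ E, ∃ l ∈ L, ∃ s : E, e = l * (f s : Γ)) {x : V} (hL : ∀ l ∈ L, l • x = x)
    (hx : orbProd E x = 1) (hEc : ∀ a ∈ E, ∀ b ∈ E, a * b = b * a) (hLE : L ≤ E) :
    ∏ e : E, (f e : Γ) • x = 1 := by
  set σ := ∏ e : E, (f e : Γ) • x with hσ
  have hfix : ∀ e ∈ E, e • σ = σ := by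
    intro e he
    obtain ⟨l, hl, s, rfl⟩ := hsup e he
    have h1 : (f s : Γ) • σ = σ := by
      rw [hσ, Finset.smul_prod']
      refine Fintype.prod_equiv (Equiv.mulLeft s) _ _ fun y => ?_
      simp [smul_smul]
    rw [mul_smul, h1, hσ, Finset.smul_prod']
    refine Finset.prod_congr rfl fun y _ => ?_
    rw [smul_smul, hEc l (hLE hl) _ (f y).2, mul_smul, hL l hl]
  refine pow_injective_of_coprime hcop ?_
  have h1 : orbProd E σ = ∏ y : E, orbProd E ((f y : Γ) • x) := by
    simp only [σ, orbProd_eq, Finset.smul_prod']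
    exact Finset.prod_comm
  rw [← orbProd_of_fixed E hfix, h1]
  simp [orbProd_smul_mem E (f _).2, hx]

/-- If `b` does not centralise `E/K`, elements of `C(b)` which centralise `E` and fix the fixed
points of `b` act trivially on the piece of `K`. -/
theorem smul_piece_of_not_good [Finite V] {q p : ℕ} (hp : p.Prime) (hcop : (Nat.card E).Coprime (Nat.card V))
    (hEc : ∀ a ∈ E, ∀ b ∈ E, a * b = b * a) (hKE : K ≤ E) (hK : K.relIndex E = q) (hq : q.Prime) {b : Γ}
    (hb : b ^ p = 1) (hbE : b ∈ normalizer (E : Set Γ)) (hgood : ¬ ∀ e ∈ E, e⁻¹ * (b * e * b⁻¹) ∈ K)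
    {y : Γ} (hyb : y * b = b * y) (hyE : ∀ e ∈ E, y * e = e * y)
    (hy : ∀ v : V, b • v = v → y • v = v) {w : V} (hw : w ∈ piece E K) : y • w = w := by
  classical
  have := Fintype.ofFinite E
  set u := y • w * w⁻¹ with hu
  have huK : u ∈ piece E K := by
    refine mul_mem (smul_piece E K ?_ ?_ hw) (inv_mem hw)
    · exact mem_normalizer_iff.mpr fun e => ⟨fun he => by rwa [hyE e he, mul_inv_cancel_right],
        fun he => by
          have h2 := hyE _ he
          have : e = y * e * y⁻¹ := by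
            calc e = y⁻¹ * (y * e * y⁻¹ * y) := by group
              _ = y * e * y⁻¹ := by rw [← h2]; group
          rwa [this]⟩
    · exact mem_normalizer_iff.mpr fun e => ⟨fun he => by rwa [hyE e (hKE he), mul_inv_cancel_right],
        fun he => by
          have h2 := hyE _ (hKE he)
          have : e = y * e * y⁻¹ := by
            calc e = y⁻¹ * (y * e * y⁻¹ * y) := by group
              _ = y * e * y⁻¹ := by rw [← h2]; group
          rwa [this]⟩
  -- the translates of `u` multiply to one, also after applying any `e ∈ E`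
  have hbi : ∀ i : ℕ, b ^ i ∈ normalizer (E : Set Γ) := fun i => pow_mem hbE i
  have hfe : ∀ (i : ℕ) (e : Γ), e ∈ E → b ^ i * e * (b ^ i)⁻¹ ∈ E := fun i e he =>
    (mem_normalizer_iff.mp (hbi i) e).mp he
  let f : ℕ → (E →* E) := fun i =>
    { toFun := fun e => ⟨(e : Γ)⁻¹ * (b ^ i * e * (b ^ i)⁻¹), mul_mem (inv_mem e.2) (hfe i e e.2)⟩
      map_one' := by ext; simp
      map_mul' := fun e e' => by
        ext
        simp only [Subgroup.coe_mul]
        have hA := hfe i e e.2
        calc ((e : Γ) * e')⁻¹ * (b ^ i * ((e : Γ) * e') * (b ^ i)⁻¹)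
            = (e' : Γ)⁻¹ * ((e : Γ)⁻¹ * (b ^ i * e * (b ^ i)⁻¹)) * (b ^ i * e' * (b ^ i)⁻¹) := by group
          _ = (e : Γ)⁻¹ * (b ^ i * e * (b ^ i)⁻¹) * ((e' : Γ)⁻¹ * (b ^ i * e' * (b ^ i)⁻¹)) := by
            rw [hEc _ (inv_mem e'.2) _ (mul_mem (inv_mem e.2) hA), mul_assoc] }
  have hsum : ∀ e : E, ∏ i ∈ Finset.range p, (f i e : Γ) • (b ^ i • u) = 1 := by
    intro e
    have h1 : ∀ v : V, ∏ i ∈ Finset.range p, b ^ i • (y • v * v⁻¹) = 1 := by
      intro v
      have h2 := hy _ (smul_cycProd hb v)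
      simp only [cycProd, Finset.smul_prod', smul_smul] at h2
      simp only [smul_mul', smul_inv', Finset.prod_mul_distrib, Finset.prod_inv_distrib, smul_smul]
      rw [mul_inv_eq_one]
      refine Eq.trans (Finset.prod_congr rfl fun i _ => ?_) h2
      rw [(Commute.pow_right (hyb : Commute y b) i).eq]
    have h3 := congrArg (fun v => (e : Γ)⁻¹ • v) (h1 ((e : Γ) • w))
    simp only [smul_one, Finset.smul_prod'] at h3
    refine Eq.trans (Finset.prod_congr rfl fun i _ => ?_) h3
    simp only [hu, smul_mul', smul_inv', smul_smul, f]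
    congr 2
    · simp [hyE e e.2, mul_assoc]
    · simp [mul_assoc]
  have hprod : ∏ i ∈ Finset.range p, ∏ e : E, (f i e : Γ) • (b ^ i • u) = 1 := by
    rw [Finset.prod_comm]; exact Finset.prod_eq_one fun e _ => hsum e
  have hother : ∀ i ∈ Finset.range p, i ≠ 0 → ∏ e : E, (f i e : Γ) • (b ^ i • u) = 1 := by
    intro i hi hi0
    let L : Subgroup Γ := K.map (MulAut.conj (b ^ i)).toMonoidHom
    have hLE : L ≤ E := by rintro _ ⟨k, hk, rfl⟩; exact hfe i k (hKE hk)
    have hLq : L.relIndex E = q := by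
      have hEE : E.map (MulAut.conj (b ^ i)).toMonoidHom = E := conj_smul_eq_self (hbi i)
      conv_lhs => rw [← hEE]
      rw [← hK]
      exact relIndex_map_map_of_injective K E (MulAut.conj (b ^ i)).injective
    refine prod_hom_smul E hcop (f i) (L := L) (fun e he => ?_) (fun l hl => ?_) ?_ hEc hLE
    · -- the image of `f i` and `L` generate `E`
      have hLn : (L.subgroupOf E).Normal := ⟨fun x hx g => by
        show ((g * x * g⁻¹ : E) : Γ) ∈ L
        have : ((g * x * g⁻¹ : E) : Γ) = (x : Γ) := by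
          rw [Subgroup.coe_mul, Subgroup.coe_mul, Subgroup.coe_inv, hEc g g.2 x x.2, mul_inv_cancel_right]
        rw [this]; exact hx⟩
      have hidx : (L.subgroupOf E).index = q := hLq
      have hS : ¬ (f i).range ≤ L.subgroupOf E := by
        intro hle
        have hin : ∀ x ∈ E, x⁻¹ * (b ^ i * x * (b ^ i)⁻¹) ∈ L := fun x hx => hle ⟨⟨x, hx⟩, rfl⟩
        have hKL : K ≤ L := fun k hk => by
          have h1 : b ^ i * k * (b ^ i)⁻¹ ∈ L := mem_map_of_mem (MulAut.conj (b ^ i)).toMonoidHom hk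
          have h2 := L.mul_mem h1 (L.inv_mem (hin k (hKE hk)))
          rwa [mul_inv_rev, inv_inv, mul_inv_cancel_left] at h2
        have hLK : K = L := eq_of_le_of_card_ge hKL
          (card_map_of_injective (MulAut.conj (b ^ i)).injective).le
        have hβK : ∀ k ∈ K, b ^ i * k * (b ^ i)⁻¹ ∈ K := fun k hk => by
          rw [hLK]; exact (mem_map_of_mem (MulAut.conj (b ^ i)).toMonoidHom hk)
        have hm : ∀ m : ℕ, ∀ x ∈ E, x⁻¹ * ((b ^ i) ^ m * x * ((b ^ i) ^ m)⁻¹) ∈ K := by
          intro m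
          induction m with
          | zero => intro x _; simp
          | succ m ihm =>
            intro x hx
            have e1 : x⁻¹ * ((b ^ i) ^ (m + 1) * x * ((b ^ i) ^ (m + 1))⁻¹) =
                (x⁻¹ * (b ^ i * x * (b ^ i)⁻¹)) *
                  (b ^ i * (x⁻¹ * ((b ^ i) ^ m * x * ((b ^ i) ^ m)⁻¹)) * (b ^ i)⁻¹) := by
              rw [pow_succ' (b ^ i) m]; group
            rw [e1]
            exact K.mul_mem (hLK ▸ hin x hx) (hβK _ (ihm x hx))
        apply hgood
        obtain ⟨m, -, hm1⟩ := Nat.exists_mul_mod_eq_one_of_coprime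
          ((Nat.coprime_of_lt_prime hi0 (Finset.mem_range.mp hi) hp).symm) hp.one_lt
        have hbm : (b ^ i) ^ m = b := by
          rw [← pow_mul, pow_eq_pow_mod (i * m) hb, hm1, pow_one]
        intro x hx
        simpa [hbm] using hm m x hx
      have htop : L.subgroupOf E ⊔ (f i).range = ⊤ := by
        refine index_eq_one.mp ?_
        rcases (Nat.dvd_prime hq).mp (hidx ▸ index_dvd_of_le
          (le_sup_left : L.subgroupOf E ≤ L.subgroupOf E ⊔ (f i).range)) with h | h
        · exact h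
        · exfalso
          refine hS (le_trans le_sup_right (le_of_eq (eq_of_le_of_card_ge le_sup_left ?_).symm))
          refine le_of_eq (Nat.eq_of_mul_eq_mul_right hq.pos ?_)
          conv_lhs => rw [← h, card_mul_index]
          rw [← hidx, card_mul_index]
      obtain ⟨l, hl, s, hs, hls⟩ := mem_sup_of_normal_left.mp (htop ▸ mem_top (⟨e, he⟩ : E))
      obtain ⟨s', rfl⟩ := hs
      exact ⟨l, hl, s', (congrArg Subtype.val hls).symm⟩
    · obtain ⟨k, hk, rfl⟩ := hl
      have h0 : k • u = u := huK.1 k hk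
      show (b ^ i * k * (b ^ i)⁻¹) • (b ^ i • u) = b ^ i • u
      rw [mul_smul, inv_smul_smul, mul_smul, h0]
    · rw [orbProd_smul_normalizer E (hbi i), huK.2, smul_one]
  rw [Finset.prod_eq_single_of_mem 0 (Finset.mem_range.mpr hp.pos) hother] at hprod
  simp [f] at hprod
  have h3 : u = 1 := pow_injective_of_coprime hcop (by rw [Nat.card_eq_fintype_card]; exact hprod)
  rwa [hu, mul_inv_eq_one] at h3

end piece

/-- An elementary abelian group of operators acting nontrivially has a nontrivial piece. -/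
theorem exists_piece_ne_bot [Finite V] (E : Subgroup Γ) {q : ℕ} (hq : q.Prime)
    (hexp : ∀ e ∈ E, e ^ q = 1) (hEc : ∀ a ∈ E, ∀ b ∈ E, a * b = b * a)
    (hcop : (Nat.card E).Coprime (Nat.card V)) (hne : ∃ e ∈ E, ∃ v : V, e • v ≠ v) :
    ∃ K : Subgroup Γ, K ≤ E ∧ K.relIndex E = q ∧ ∃ w ∈ piece (V := V) E K, w ≠ 1 := by
  classical
  have hne' : ∃ v : V, (∀ k ∈ (⊥ : Subgroup Γ), k • v = v) ∧ ∃ e ∈ E, e • v ≠ v := by
    obtain ⟨e, he, v, hv⟩ := hne
    exact ⟨v, fun k hk => by rw [mem_bot.mp hk, one_smul], e, he, hv⟩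
  obtain ⟨K, -, hK⟩ := Finite.exists_le_maximal
    (p := fun K : Subgroup Γ => K ≤ E ∧ ∃ v : V, (∀ k ∈ K, k • v = v) ∧ ∃ e ∈ E, e • v ≠ v)
    (a := ⊥) ⟨bot_le, hne'⟩
  obtain ⟨hKE, v, hvK, e, he, hev⟩ := hK.prop
  have hmax : ∀ x ∈ E, x ∉ K → ∀ u : V, (∀ k ∈ K, k • u = u) → x • u = u → ∀ e ∈ E, e • u = u := by
    intro x hx hxK u huK hux
    by_contra hcon
    push_neg at hcon
    refine hxK (hK.le_of_ge ⟨sup_le hKE (zpowers_le.mpr hx), u, ?_, hcon⟩ le_sup_left
      (mem_sup_right (mem_zpowers x)))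
    exact fun k hk => (sup_le (fun k hk => huK k hk) (zpowers_le.mpr hux) :
      K ⊔ zpowers x ≤ MulAction.stabilizer Γ u) hk
  obtain ⟨x, hx, hxK⟩ : ∃ x ∈ E, x ∉ K := ⟨e, he, fun h => hev (hvK e h)⟩
  have hord : ∀ z ∈ E, z ≠ 1 → orderOf z = q := fun z hz hz1 => by
    haveI := Fact.mk hq
    exact orderOf_eq_prime (hexp z hz) hz1
  by_cases hall : ∀ y ∈ E, y ∈ K ⊔ zpowers x
  · have hEeq : K ⊔ zpowers x = E := le_antisymm (sup_le hKE (zpowers_le.mpr hx)) hall
    have hn : zpowers x ≤ normalizer (K : Set Γ) := fun z hz => mem_normalizer_iff.mpr fun k => by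
      have hzE : z ∈ E := zpowers_le.mpr hx hz
      constructor
      · intro hk; rw [hEc z hzE k (hKE hk), mul_inv_cancel_right]; exact hk
      · intro hk
        have hkE : k ∈ E := by
          have := E.mul_mem (E.mul_mem (E.inv_mem hzE) (hKE hk)) hzE; simpa [mul_assoc] using this
        rwa [hEc z hzE k hkE, mul_inv_cancel_right] at hk
    have hinf : zpowers x ⊓ K = ⊥ := by
      refine (eq_bot_iff_forall _).mpr fun z hz => ?_
      by_contra hz1
      obtain ⟨m, hm⟩ := mem_zpowers_iff.mp hz.1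
      have h1 : zpowers z = zpowers x := eq_of_le_of_card_ge (zpowers_le.mpr hz.1) (by
        rw [Nat.card_zpowers, Nat.card_zpowers, hord x hx (fun h => hxK (h ▸ K.one_mem)),
          hord z (hKE hz.2) hz1])
      exact hxK (zpowers_le.mpr hz.2 (h1.symm ▸ mem_zpowers x))
    refine ⟨K, hKE, ?_, v ^ Nat.card E * (orbProd E v)⁻¹, ⟨fun k hk => ?_, ?_⟩, fun h => ?_⟩
    · have h1 := card_sup_of_coprime_like hn hinf
      rw [sup_comm, hEeq, Nat.card_zpowers, hord x hx (fun h => hxK (h ▸ K.one_mem))] at h1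
      have h2 : Nat.card K * K.relIndex E = Nat.card E := by
        rw [relIndex, ← Nat.card_congr (subgroupOfEquivOfLe hKE).toEquiv]; exact card_mul_index _
      rw [h1, mul_comm q] at h2
      exact Nat.eq_of_mul_eq_mul_left Nat.card_pos h2
    · rw [smul_mul', smul_pow', hvK k hk, smul_inv', smul_orbProd E (hKE hk)]
    · rw [orbProd_mul, orbProd_pow, orbProd_inv,
        orbProd_of_fixed E (fun z hz => smul_orbProd E hz v), mul_inv_cancel]
    · rw [mul_inv_eq_one] at h
      apply hev
      have h2 : (e • v * v⁻¹) ^ Nat.card E = 1 := by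
        rw [mul_pow, inv_pow, ← smul_pow', h, smul_orbProd E he, mul_inv_cancel]
      exact mul_inv_eq_one.mp (pow_injective_of_coprime hcop h2)
  · push_neg at hall
    obtain ⟨y, hy, hyK⟩ := hall
    exfalso
    have hx1 : x ≠ 1 := fun h => hxK (h ▸ K.one_mem)
    have hy1 : y ≠ 1 := fun h => hyK (h ▸ one_mem _)
    let B : Subgroup Γ := zpowers x ⊔ zpowers y
    have hBE : B ≤ E := sup_le (zpowers_le.mpr hx) (zpowers_le.mpr hy)
    have hinf : zpowers y ⊓ zpowers x = ⊥ := by
      refine (eq_bot_iff_forall _).mpr fun z hz => ?_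
      by_contra hz1
      have h1 : zpowers z = zpowers y := eq_of_le_of_card_ge (zpowers_le.mpr hz.1) (by
        rw [Nat.card_zpowers, Nat.card_zpowers, hord y hy hy1, hord z (zpowers_le.mpr hx hz.2) hz1])
      exact hyK (mem_sup_right (zpowers_le.mpr hz.2 (h1.symm ▸ mem_zpowers y)))
    have hn : zpowers y ≤ normalizer (zpowers x : Set Γ) := fun z hz => mem_normalizer_iff.mpr fun k => by
      have hzE : z ∈ E := zpowers_le.mpr hy hz
      constructor
      · intro hk; rw [hEc z hzE k (zpowers_le.mpr hx hk), mul_inv_cancel_right]; exact hk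
      · intro hk
        have hkE : k ∈ E := by
          have := E.mul_mem (E.mul_mem (E.inv_mem hzE) (zpowers_le.mpr hx hk)) hzE
          simpa [mul_assoc] using this
        rwa [hEc z hzE k hkE, mul_inv_cancel_right] at hk
    have hBc : Nat.card B = q ^ 2 := by
      have h1 := card_sup_of_coprime_like hn hinf
      rw [sup_comm, Nat.card_zpowers, Nat.card_zpowers, hord x hx hx1, hord y hy hy1, ← pow_two] at h1
      exact h1
    have hinfK : ∀ b ∈ B, b ≠ 1 → b ∉ K := by
      intro b hb hb1 hbK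
      have hb2 : b ∈ zpowers y ⊔ zpowers x := by rw [sup_comm]; exact hb
      obtain ⟨a, ha, c, hc, rfl⟩ := (mem_sup_of_le_normalizer hn).mp hb2
      by_cases ha1 : a = 1
      · subst ha1
        rw [one_mul] at hbK hb1
        have h1 : zpowers c = zpowers x := eq_of_le_of_card_ge (zpowers_le.mpr hc) (by
          rw [Nat.card_zpowers, Nat.card_zpowers, hord x hx hx1, hord c (zpowers_le.mpr hx hc) hb1])
        exact hxK (zpowers_le.mpr hbK (h1.symm ▸ mem_zpowers x))
      · have ha' : a ∈ K ⊔ zpowers x := by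
          have h0 : a = a * c * c⁻¹ := by rw [mul_inv_cancel_right]
          rw [h0]; exact mul_mem (mem_sup_left hbK) (mem_sup_right (inv_mem hc))
        have h1 : zpowers a = zpowers y := eq_of_le_of_card_ge (zpowers_le.mpr ha) (by
          rw [Nat.card_zpowers, Nat.card_zpowers, hord y hy hy1, hord a (zpowers_le.mpr hy ha) ha1])
        exact hyK (zpowers_le.mpr ha' (h1.symm ▸ mem_zpowers y))
    let D : Subgroup V :=
      { carrier := {u | ∀ z ∈ E, z • orbProd K u = orbProd K u}
        one_mem' := fun z _ => by rw [orbProd_of_fixed K fun k _ => smul_one k, one_pow, smul_one]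
        mul_mem' := fun {a b} ha hb z hz => by rw [orbProd_mul, smul_mul', ha z hz, hb z hz]
        inv_mem' := fun {a} ha z hz => by rw [orbProd_inv, smul_inv', ha z hz] }
    have hord2 : q.Coprime (Nat.card V) := by
      refine hcop.coprime_dvd_left ((dvd_pow_self q two_ne_zero).trans (hBc ▸ card_dvd_of_le hBE))
    have := Fintype.ofFinite B
    have htop : D = ⊤ := eq_top_of_fixed_mem ((MulDistribMulAction.toMulAut Γ V).comp B.subtype) hq
      (fun b => Subtype.ext (by simpa using hexp b (hBE b.2))) hBc hord2 D fun b hb u hu z hz => by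
        have hb1 : (b : Γ) ≠ 1 := fun h => hb (Subtype.ext h)
        refine hmax b (hBE b.2) (hinfK b b.2 hb1) _ (fun k hk => smul_orbProd K hk u) ?_ z hz
        have hbn : (b : Γ) ∈ normalizer (K : Set Γ) := mem_normalizer_iff.mpr fun k => by
          constructor
          · intro hk; rw [hEc b (hBE b.2) k (hKE hk), mul_inv_cancel_right]; exact hk
          · intro hk
            have hkE : k ∈ E := by
              have := E.mul_mem (E.mul_mem (E.inv_mem (hBE b.2)) (hKE hk)) (hBE b.2)
              simpa [mul_assoc] using this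
            rwa [hEc b (hBE b.2) k hkE, mul_inv_cancel_right] at hk
        rw [← orbProd_smul_normalizer K hbn, show (b : Γ) • u = u from hu]
    have h1 : e • orbProd K v = orbProd K v := (htop ▸ mem_top v : v ∈ D) e he
    rw [orbProd_of_fixed K hvK, smul_pow'] at h1
    refine hev (mul_inv_eq_one.mp (pow_injective_of_coprime (hcop.coprime_dvd_left (card_dvd_of_le hKE)) ?_))
    rw [mul_pow, inv_pow, h1, mul_inv_cancel]

/-- A group with a fixed-point-free automorphism `t` of prime order acts trivially on every module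
of coprime order on which `t` has no fixed points. -/
theorem smul_eq_self_of_fpf [Finite V] {Q : Subgroup Γ} {t : Γ} {p : ℕ} (hp : p.Prime) (ht : t ^ p = 1)
    (htQ : t ∈ normalizer (Q : Set Γ)) (hQ : ∀ y ∈ Q, t * y = y * t → y = 1)
    (hV : ∀ v : V, t • v = v → v = 1) (hcop : (Nat.card Q).Coprime (Nat.card V)) {y : Γ} (hy : y ∈ Q)
    (v : V) : y • v = v := by
  classical
  have := Fintype.ofFinite Q
  have hone : ∀ z : Q, ∏ i ∈ Finset.range p, ((z : Γ) * t ^ i * (z : Γ)⁻¹) • v = 1 := by
    intro z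
    have h1 := hV _ (smul_cycProd ht ((z : Γ)⁻¹ • v))
    simp only [cycProd] at h1
    have h2 := congrArg (fun u => (z : Γ) • u) h1
    simp only [smul_one, Finset.smul_prod', smul_smul] at h2
    simpa [mul_assoc] using h2
  have hsum : ∏ i ∈ Finset.range p, ∏ z : Q, ((z : Γ) * t ^ i * (z : Γ)⁻¹) • v = 1 := by
    rw [Finset.prod_comm]; exact Finset.prod_eq_one fun z _ => hone z
  have hfix : ∀ i ∈ Finset.range p, i ≠ 0 →
      y • ∏ z : Q, ((z : Γ) * t ^ i * (z : Γ)⁻¹) • v = ∏ z : Q, ((z : Γ) * t ^ i * (z : Γ)⁻¹) • v := by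
    intro i hi hi0
    have hn : t ^ i ∈ normalizer (Q : Set Γ) := pow_mem htQ i
    obtain ⟨m, -, hm1⟩ := Nat.exists_mul_mod_eq_one_of_coprime
      ((Nat.coprime_of_lt_prime hi0 (Finset.mem_range.mp hi) hp).symm) hp.one_lt
    have hbm : (t ^ i) ^ m = t := by
      rw [← pow_mul, pow_eq_pow_mod (i * m) ht, hm1, pow_one]
    let g : Q → Q := fun z => ⟨(z : Γ) * (t ^ i * (z : Γ)⁻¹ * (t ^ i)⁻¹),
      mul_mem z.2 ((mem_normalizer_iff.mp hn _).mp (inv_mem z.2))⟩
    have hg : Function.Injective g := by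
      intro a b hab
      have h : (a : Γ) * (t ^ i * (a : Γ)⁻¹ * (t ^ i)⁻¹) = (b : Γ) * (t ^ i * (b : Γ)⁻¹ * (t ^ i)⁻¹) :=
        congrArg Subtype.val hab
      have hc : Commute (t ^ i) ((b : Γ)⁻¹ * a) := by
        show t ^ i * ((b : Γ)⁻¹ * a) = (b : Γ)⁻¹ * a * t ^ i
        calc t ^ i * ((b : Γ)⁻¹ * a)
            = (b : Γ)⁻¹ * ((b : Γ) * (t ^ i * (b : Γ)⁻¹ * (t ^ i)⁻¹)) * (t ^ i) * a := by group
          _ = (b : Γ)⁻¹ * ((a : Γ) * (t ^ i * (a : Γ)⁻¹ * (t ^ i)⁻¹)) * (t ^ i) * a := by rw [h]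
          _ = _ := by group
      have h3 := hQ _ (mul_mem (inv_mem b.2) a.2) (hbm ▸ (hc.pow_left m).eq)
      exact Subtype.ext (inv_mul_eq_one.mp h3).symm
    have e : ∀ z : Q, ((z : Γ) * t ^ i * (z : Γ)⁻¹) • v = (g z : Γ) • (t ^ i • v) := fun z => by
      rw [smul_smul]; congr 1; simp only [g]; group
    rw [Finset.prod_congr rfl fun z _ => e z,
      Function.Bijective.prod_comp (Finite.injective_iff_bijective.mp hg) fun z : Q => (z : Γ) • (t ^ i • v),
      ← orbProd_eq, smul_orbProd Q hy]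
  rw [← Finset.mul_prod_erase _ _ (Finset.mem_range.mpr hp.pos)] at hsum
  simp only [pow_zero, mul_one, mul_inv_cancel, one_smul, Finset.prod_const, Finset.card_univ] at hsum
  have h2 := congrArg (fun u => y • u) hsum
  simp only [smul_mul', smul_one, Finset.smul_prod'] at h2
  rw [Finset.prod_congr rfl fun i hi => (Finset.smul_prod'.symm.trans
    (hfix i (Finset.mem_of_mem_erase hi) (Finset.ne_of_mem_erase hi)))] at h2
  have h3 : (y • v) ^ Fintype.card Q = v ^ Fintype.card Q := by
    rw [← smul_pow']; exact mul_right_cancel (h2.trans hsum.symm)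
  refine mul_inv_eq_one.mp (pow_injective_of_coprime hcop ?_)
  rw [Nat.card_eq_fintype_card, mul_pow, inv_pow, h3, mul_inv_cancel]

end Cfsg.Agent.Lib.FitHeight
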