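import Cfsg.Agent.Lib.FitHeight.Pieces
import Mathlib.GroupTheory.QuotientGroup.Basic

/-! Fixed-point-free operators of prime order against abelian groups and against the Frattini
quotient. -/

set_option autoImplicit false

namespace Cfsg.Agent.Lib.FitHeight

open scoped Pointwise commutatorElement
open Subgroup Cfsg.Agent.Lib.Coprime

theorem mem_centralizer_zpowers {G : Type*} [Group G] {y s : G} (h : s * y = y * s) :
    y ∈ centralizer (zpowers s : Set G) := by
  rw [mem_centralizer_iff]
  rintro z ⟨k, rfl⟩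
  exact (Commute.zpow_left (h : Commute s y) k).eq

section restrict

variable {Γ : Type*} [Group Γ] {V : Type*} [CommGroup V] [MulDistribMulAction Γ V]

/-- The operators leaving a subgroup of the module invariant. -/
def stabSub (W : Subgroup V) : Subgroup Γ where
  carrier := {g | ∀ v : V, g • v ∈ W ↔ v ∈ W}
  one_mem' := fun v => by rw [one_smul]
  mul_mem' := fun {a b} ha hb v => by rw [mul_smul]; exact (ha _).trans (hb v)
  inv_mem' := fun {a} ha v => by rw [← ha (a⁻¹ • v), smul_inv_smul]

/-- The action on an invariant subgroup. -/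
instance instMulDistribMulActionStabSub (W : Subgroup V) :
    MulDistribMulAction (stabSub (Γ := Γ) W) W where
  smul g w := ⟨(g : Γ) • (w : V), (g.2 w).mpr w.2⟩
  one_smul w := Subtype.ext (one_smul Γ (w : V))
  mul_smul a b w := Subtype.ext (mul_smul (a : Γ) (b : Γ) (w : V))
  smul_mul a x y := Subtype.ext (smul_mul' (a : Γ) (x : V) (y : V))
  smul_one a := Subtype.ext (smul_one (a : Γ))

theorem coe_stabSub_smul (W : Subgroup V) (g : stabSub (Γ := Γ) W) (w : W) :
    ((g • w : W) : V) = (g : Γ) • (w : V) := rfl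

theorem mem_stabSub [Finite V] {W : Subgroup V} {g : Γ} (h : ∀ v ∈ W, g • v ∈ W) :
    g ∈ stabSub (Γ := Γ) W := by
  intro v
  refine ⟨fun hv => ?_, h v⟩
  let f : W → W := fun w => ⟨g • (w : V), h w w.2⟩
  have hf : Function.Injective f := fun a b e =>
    Subtype.ext (smul_left_cancel g (congrArg Subtype.val e))
  obtain ⟨w, hw⟩ := Finite.surjective_of_injective hf ⟨_, hv⟩
  rw [← smul_left_cancel g (congrArg Subtype.val hw)]
  exact w.2

theorem le_stabSub [Finite V] {W : Subgroup V} {E : Subgroup Γ} (h : ∀ g ∈ E, ∀ v ∈ W, g • v ∈ W) :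
    E ≤ stabSub (Γ := Γ) W := fun g hg => mem_stabSub (h g hg)

end restrict

section fpf

variable {Γ : Type*} [Group Γ] [Finite Γ] {V : Type*} [CommGroup V] [Finite V] [MulDistribMulAction Γ V]
  {p : ℕ} {s : Γ}

/-- A fixed-point-free element of prime order commutes with the coprime groups it normalises which
act as abelian groups. -/
theorem commute_of_fpf_abelian (hp : p.Prime) (hs : s ^ p = 1) (hfix : ∀ v : V, s • v = v → v = 1)
    {E : Subgroup Γ} (hsE : s ∈ normalizer (E : Set Γ)) (hpE : p.Coprime (Nat.card E))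
    (hcop : (Nat.card E).Coprime (Nat.card V))
    (hc : ∀ a ∈ E, ∀ b ∈ E, ∀ v : V, a • b • v = b • a • v) :
    ∀ e ∈ E, ∀ v : V, s • e • v = e • s • v := by
  let ρ : Γ →* MulAut V := MulDistribMulAction.toMulAut Γ V
  haveI : Finite (MulAut V) := Finite.of_injective (fun σ : MulAut V => (σ : V → V)) DFunLike.coe_injective
  let E' : Subgroup (MulAut V) := E.map ρ
  let σ : MulAut V := ρ s
  haveI : IsMulCommutative E' := ⟨⟨by
    rintro ⟨_, a, ha, rfl⟩ ⟨_, b, hb, rfl⟩
    exact Subtype.ext (MulEquiv.ext fun v => hc a ha b hb v)⟩⟩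
  have hσE : σ ∈ normalizer (E' : Set (MulAut V)) := le_normalizer_map _ (mem_map_of_mem _ hsE)
  have hAE : zpowers σ ≤ normalizer (E' : Set (MulAut V)) := zpowers_le.mpr hσE
  have hσp : σ ^ p = 1 := by rw [← map_pow, hs, map_one]
  have hdvd : Nat.card E' ∣ Nat.card E := card_map_dvd E ρ
  have hcA : (Nat.card (zpowers σ)).Coprime (Nat.card E') := by
    rw [Nat.card_zpowers]
    exact (hpE.coprime_dvd_right hdvd).coprime_dvd_left (orderOf_dvd_of_pow_eq_one hσp)
  have hle : ⁅E', zpowers σ⁆ ≤ E' := commutator_le_of_le_normalizer' hAE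
  intro e he v
  have h1 : ∀ y ∈ ⁅E', zpowers σ⁆, ∀ w : V, y • w = w := fun y hy w =>
    smul_eq_self_of_fpf hp hσp (zpowers_le.mp (right_le_normalizer_commutator E' (zpowers σ)))
      (fun z hz hzs => mem_bot.mp (inf_centralizer_inf_commutator hAE hcA ▸
        (⟨⟨hle hz, mem_centralizer_zpowers hzs⟩, hz⟩ :
          z ∈ E' ⊓ centralizer (zpowers σ : Set (MulAut V)) ⊓ ⁅E', zpowers σ⁆)))
      hfix ((hcop.coprime_dvd_left hdvd).coprime_dvd_left (card_dvd_of_le hle)) hy w
  have h2 : ⁅ρ e, σ⁆ = 1 := MulEquiv.ext fun w =>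
    h1 _ (commutator_mem_commutator (mem_map_of_mem ρ he) (mem_zpowers σ)) w
  exact (DFunLike.congr_fun (commutatorElement_eq_one_iff_mul_comm.mp h2) v).symm

/-- If the fixed points of `t` in `Q` act trivially and `t` has none on the module, then `Q` acts
trivially. -/
theorem smul_eq_self_of_fixed_trivial (hp : p.Prime) {t : Γ} (ht : t ^ p = 1) {Q : Subgroup Γ}
    (htQ : t ∈ normalizer (Q : Set Γ)) (hpQ : p.Coprime (Nat.card Q))
    (hQ : ∀ y ∈ Q, t * y = y * t → ∀ v : V, y • v = v) (hV : ∀ v : V, t • v = v → v = 1)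
    (hcop : (Nat.card Q).Coprime (Nat.card V)) {y : Γ} (hy : y ∈ Q) (v : V) : y • v = v := by
  let ρ : Γ →* MulAut V := MulDistribMulAction.toMulAut Γ V
  haveI : Finite (MulAut V) := Finite.of_injective (fun σ : MulAut V => (σ : V → V)) DFunLike.coe_injective
  refine smul_eq_self_of_fpf (Γ := MulAut V) (Q := Q.map ρ) (t := ρ t) hp
    (by rw [← map_pow, ht, map_one]) (le_normalizer_map _ (mem_map_of_mem _ htQ)) ?_ hV
    (hcop.coprime_dvd_left (card_map_dvd Q ρ)) (mem_map_of_mem ρ hy) v
  rintro _ ⟨z, hz, rfl⟩ hzt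
  let N : Subgroup Γ := Q ⊓ ρ.ker
  have htN : t ∈ normalizer (N : Set Γ) := by
    refine inf_normalizer_le_normalizer_inf ⟨htQ, ?_⟩
    rw [normalizer_eq_top]; exact mem_top _
  obtain ⟨c, hc, hzc⟩ := exists_centralizer_mem_coset (A := zpowers t) (N := N) (k := z)
    (zpowers_le.mpr htN) (by
      rw [Nat.card_zpowers]
      exact (hpQ.coprime_dvd_right (card_dvd_of_le inf_le_left)).coprime_dvd_left
        (orderOf_dvd_of_pow_eq_one ht))
    (Or.inl (Group.isSolvable_of_comm fun a b => mul_comm' a b)) (fun a ha => by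
      refine ⟨Q.mul_mem (Q.inv_mem hz)
        ((mem_normalizer_iff.mp (zpowers_le.mpr htQ ha) z).mp hz), MonoidHom.mem_ker.mpr ?_⟩
      obtain ⟨k, rfl⟩ := ha
      simp only [map_mul, map_inv, map_zpow]
      rw [(Commute.zpow_left (hzt : Commute (ρ t) (ρ z)) k).eq, mul_inv_cancel_right, inv_mul_cancel])
  have hcQ : c ∈ Q := by simpa using Q.mul_mem hz hzc.1
  have h1 : ρ c = 1 := MulEquiv.ext fun w =>
    hQ c hcQ (mem_centralizer_iff.mp hc t (mem_zpowers t)) w
  have h2 : ρ (z⁻¹ * c) = 1 := hzc.2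
  rwa [map_mul, h1, mul_one, map_inv, inv_eq_one] at h2

end fpf

section frattiniAct

variable {G : Type*} [Group G] (P : Subgroup G)

/-- Conjugation by the normaliser. -/
abbrev normAct : normalizer (P : Set G) →* MulAut P := P.normalizerMonoidHom

theorem coe_normAct_apply (g : normalizer (P : Set G)) (y : P) :
    ((normAct P g y : P) : G) = g * y * (g : G)⁻¹ := rfl

/-- The action of the normaliser on the Frattini quotient. -/
noncomputable def frattiniAct : normalizer (P : Set G) →* MulAut (P ⧸ frattini P) where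
  toFun g := QuotientGroup.congr (frattini P) (frattini P) (normAct P g)
    (characteristic_iff_map_eq.mp inferInstance _)
  map_one' := MulEquiv.ext fun x => by
    obtain ⟨y, rfl⟩ := QuotientGroup.mk'_surjective _ x
    show QuotientGroup.mk (normAct P (1 : normalizer (P : Set G)) y) = _
    rw [map_one]; rfl
  map_mul' a b := MulEquiv.ext fun x => by
    obtain ⟨y, rfl⟩ := QuotientGroup.mk'_surjective _ x
    show QuotientGroup.mk (normAct P (a * b) y) = _
    rw [map_mul]; rfl

theorem frattiniAct_mk (g : normalizer (P : Set G)) (y : P) :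
    frattiniAct P g (y : P ⧸ frattini P) = ((normAct P g y : P) : P ⧸ frattini P) := rfl

theorem conj_mem_map_frattini {g : G} (hg : g ∈ normalizer (P : Set G)) {x : G}
    (hx : x ∈ (frattini P).map P.subtype) : g * x * g⁻¹ ∈ (frattini P).map P.subtype := by
  obtain ⟨y, hy, rfl⟩ := hx
  exact ⟨normAct P ⟨g, hg⟩ y,
    (characteristic_iff_map_eq.mp (inferInstance : (frattini P).Characteristic)
      (normAct P (⟨g, hg⟩ : normalizer (P : Set G)))).le (mem_map_of_mem _ hy), rfl⟩

theorem le_normalizer_map_frattini [Finite G] :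
    normalizer (P : Set G) ≤ normalizer ((frattini P).map P.subtype : Set G) := fun g hg => by
  refine mem_normalizer_of_conj_smul_eq (eq_of_le_of_card_ge ?_ (card_conj_smul g _).ge)
  intro x hx
  rw [mem_conj_smul] at hx
  simpa [mul_assoc] using conj_mem_map_frattini P hg hx

theorem mem_centralizer_of_frattiniAct [Finite G] {x : G} (hx : x ∈ normalizer (P : Set G))
    (hcop : (orderOf x).Coprime (Nat.card P))
    (h : ∀ y : P, frattiniAct P ⟨x, hx⟩ (y : P ⧸ frattini P) = y) : x ∈ centralizer (P : Set G) := by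
  refine le_centralizer_of_frattini (A := zpowers x) (zpowers_le.mpr hx)
    (by rw [Nat.card_zpowers]; exact hcop.coprime_dvd_right (card_subgroup_dvd_card _))
    (fun a ha k hk => ?_) (mem_zpowers x)
  obtain ⟨i, rfl⟩ := ha
  have hxi : ((frattiniAct P ⟨x, hx⟩) ^ i) (⟨k, hk⟩ : P) =
      ((⟨k, hk⟩ : P) : P ⧸ frattini P) := by
    have hmem : frattiniAct P ⟨x, hx⟩ ∈ MulAction.stabilizer (MulAut (P ⧸ frattini P))
        ((⟨k, hk⟩ : P) : P ⧸ frattini P) := h ⟨k, hk⟩
    exact zpow_mem hmem i
  rw [← map_zpow, frattiniAct_mk, QuotientGroup.eq_iff_div_mem, div_eq_mul_inv] at hxi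
  exact ⟨_, hxi, rfl⟩

end frattiniAct

open scoped IsMulCommutative in
/-- An operator of prime order without fixed points on a group `P` of prime power order forces the
coprime groups whose fixed points centralise `P` to centralise `P`. -/
theorem le_centralizer_of_fpf {G : Type*} [Group G] [Finite G] {p q : ℕ} (hp : p.Prime)
    [Fact q.Prime] {P R : Subgroup G} (hP : IsPGroup q P) {t : G} (ht : t ^ p = 1)
    (hRP : R ≤ normalizer (P : Set G)) (htP : t ∈ normalizer (P : Set G))
    (htR : t ∈ normalizer (R : Set G)) (hfix : ∀ y ∈ P, t * y = y * t → y = 1)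
    (hR : ∀ x ∈ R, t * x = x * t → x ∈ centralizer (P : Set G)) (hpP : p.Coprime (Nat.card P))
    (hpR : p.Coprime (Nat.card R)) (hcop : (Nat.card R).Coprime (Nat.card P)) :
    R ≤ centralizer (P : Set G) := by
  have hc : IsMulCommutative (P ⧸ frattini P) :=
    (Normal.quotient_commutative_iff_commutator_le (N := frattini P)).mpr
      (PGroupFrattini.commutator_le_frattini hP)
  let act : MulDistribMulAction (normalizer (P : Set G)) (P ⧸ frattini P) :=
    MulDistribMulAction.compHom _ (frattiniAct P)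
  intro x hx
  refine mem_centralizer_of_frattiniAct P (hRP hx)
    (hcop.coprime_dvd_left (orderOf_dvd_natCard R hx)) fun y => ?_
  refine smul_eq_self_of_fixed_trivial (Γ := normalizer (P : Set G)) (V := P ⧸ frattini P) hp
    (t := ⟨t, htP⟩) (Subtype.ext ht) (Q := R.subgroupOf _) ?_ ?_ ?_ ?_ ?_
    (show (⟨x, hRP hx⟩ : normalizer (P : Set G)) ∈ R.subgroupOf _ from hx) (y : P ⧸ frattini P)
  · rw [mem_normalizer_iff]; exact fun z => mem_normalizer_iff.mp htR (z : G)
  · rwa [Nat.card_congr (subgroupOfEquivOfLe hRP).toEquiv]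
  · intro z hz hzt v
    obtain ⟨w, rfl⟩ := QuotientGroup.mk'_surjective _ v
    show frattiniAct P z (w : P ⧸ frattini P) = (w : P ⧸ frattini P)
    rw [frattiniAct_mk]
    congr 1
    apply Subtype.ext
    rw [coe_normAct_apply, ← mem_centralizer_iff.mp (hR z hz (congrArg Subtype.val hzt)) w w.2,
      mul_inv_cancel_right]
  · intro v hv
    obtain ⟨w, rfl⟩ := QuotientGroup.mk'_surjective _ v
    obtain ⟨c, hc1, hwc⟩ := exists_centralizer_mem_coset (A := zpowers t)
      (N := (frattini P).map P.subtype) (k := (w : G))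
      ((zpowers_le.mpr htP).trans (le_normalizer_map_frattini P))
      (by
        rw [Nat.card_zpowers]
        exact (hpP.coprime_dvd_right (card_dvd_of_le (map_subtype_le _))).coprime_dvd_left
          (orderOf_dvd_of_pow_eq_one ht))
      (Or.inl (Group.isSolvable_of_comm fun a b => mul_comm' a b)) (fun a ha => by
        obtain ⟨i, rfl⟩ := ha
        have h1 : (frattiniAct P ⟨t, htP⟩ ^ i) (w : P ⧸ frattini P) = (w : P ⧸ frattini P) :=
          zpow_mem (show frattiniAct P ⟨t, htP⟩ ∈ MulAction.stabilizer (MulAut (P ⧸ frattini P))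
            (w : P ⧸ frattini P) from hv) i
        rw [← map_zpow, frattiniAct_mk] at h1
        have h2 := inv_mem (QuotientGroup.eq.mp h1)
        rw [mul_inv_rev, inv_inv] at h2
        exact ⟨_, h2, rfl⟩)
    have hcP : c ∈ P := by simpa using P.mul_mem w.2 (map_subtype_le _ hwc)
    rw [hfix c hcP (mem_centralizer_iff.mp hc1 t (mem_zpowers t)), mul_one] at hwc
    obtain ⟨z, hz, hze⟩ := inv_mem hwc
    rw [inv_inv] at hze
    exact (QuotientGroup.eq_one_iff w).mpr (P.subtype_injective hze ▸ hz)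
  · rw [Nat.card_congr (subgroupOfEquivOfLe hRP).toEquiv]
    exact hcop.coprime_dvd_right (card_quotient_dvd_card _)

end Cfsg.Agent.Lib.FitHeight
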