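import Cfsg.Agent.Lib.FitHeight.HallHigman

/-! The size of a `q`-group acted on by a fixed-point-free element of prime order `p` inside an
irreducible module: modulo its centre it has order `(p - 1) ^ 2`. -/

set_option autoImplicit false
set_option linter.style.haveILetI false

namespace Cfsg.Agent.Lib.FitHeight

open scoped Pointwise commutatorElement
open Subgroup Cfsg.Agent.Lib.Coprime

universe u v w

variable {k : Type v} [Field k] [IsAlgClosed k] {p q : ℕ}

theorem irreducible_quotient_card (hp : p.Prime) (hq : q.Prime) (hqp : q ≠ p) (hp0 : (p : k) ≠ 0)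
    (hq0 : (q : k) ≠ 0) {Γ : Type u} [Group Γ] [Finite Γ] {W : Type w} [AddCommGroup W] [Module k W]
    [FiniteDimensional k W] [Nontrivial W] (ρ : Γ →* Module.End k W) (hinj : Function.Injective ρ)
    (Q : Subgroup Γ) (hQ : IsPGroup q Q) (f : Γ) (hfQ : f ∈ normalizer (Q : Set Γ)) (hf : f ^ p = 1)
    (hsum : ∑ i ∈ Finset.range p, ρ f ^ i = 0)
    (hirr : ∀ U : Submodule k W, (∀ y ∈ Q, ∀ u ∈ U, ρ y u ∈ U) → (∀ u ∈ U, ρ f u ∈ U) → U = ⊥ ∨ U = ⊤)
    (hfull : ⁅Q, zpowers f⁆ = Q) (hne : ¬ ∀ y ∈ Q, f * y = y * f)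
    (hcen : ∀ y ∈ Q, (y ∈ centralizer (Q : Set Γ) ∨ y ∈ (frattini Q).map Q.subtype) → f * y = y * f) :
    (Q ⊓ centralizer (Q : Set Γ)).relIndex Q = (p - 1) ^ 2 := by
  classical
  have := Fact.mk hq
  have := Fintype.ofFinite Γ
  have hρf : ρ f ^ p = 1 := by rw [← map_pow, hf, map_one]
  -- scalars
  have scalar_of : ∀ M : Module.End k W, (∀ y ∈ Q, ρ y * M = M * ρ y) → ρ f * M = M * ρ f →
      ∃ c : k, M = c • 1 := fun M h1 h2 =>
    exists_scalar_of_commute (insert (ρ f) (ρ '' (Q : Set Γ)))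
      (fun U hU => hirr U (fun y hy => hU _ (Set.mem_insert_of_mem _ ⟨y, hy, rfl⟩))
        (hU _ (Set.mem_insert _ _)))
      (by rintro T (rfl | ⟨y, hy, rfl⟩); exacts [h2, h1 y hy])
  let S : Subalgebra k (Module.End k W) := Algebra.adjoin k (ρ '' (Q : Set Γ))
  have hρS : ∀ y ∈ Q, ρ y ∈ S := fun y hy => Algebra.subset_adjoin ⟨y, hy, rfl⟩
  have hScomm : ∀ M : Module.End k W, (∀ y ∈ Q, ρ y * M = M * ρ y) → ∀ T ∈ S, T * M = M * T := by
    intro M hM T hT
    induction hT using Algebra.adjoin_induction with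
    | mem x hx => obtain ⟨y, hy, rfl⟩ := hx; exact hM y hy
    | algebraMap c => exact Algebra.commutes c M
    | add x y _ _ hx hy => rw [add_mul, mul_add, hx, hy]
    | mul x y _ _ hx hy => rw [mul_assoc, hy, ← mul_assoc, hx, mul_assoc]
  -- `ρ f` lies in the algebra generated by `Q`
  have := Fintype.ofFinite Q
  let C : ℕ → Module.End k W := fun i => ∑ x : Q, ρ ((x : Γ) * f ^ i * (x : Γ)⁻¹)
  have hfpow : ∀ (x : Γ) (i : ℕ), ρ (x * f ^ i * x⁻¹) = ρ x * ρ f ^ i * ρ x⁻¹ := fun x i => by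
    rw [map_mul, map_mul, map_pow]
  have hCsum : ∑ i ∈ Finset.range p, C i = 0 := by
    rw [Finset.sum_comm]
    refine Finset.sum_eq_zero fun x _ => ?_
    rw [Finset.sum_congr rfl fun i _ => hfpow x i, ← Finset.sum_mul, ← Finset.mul_sum, hsum, mul_zero,
      zero_mul]
  have hC0 : C 0 = (Fintype.card Q : k) • 1 := by
    simp [C, ← map_mul, Nat.cast_smul_eq_nsmul]
  have hCQ : ∀ i, ∀ y ∈ Q, ρ y * C i = C i * ρ y := by
    intro i y hy
    simp only [C, Finset.mul_sum, Finset.sum_mul, ← map_mul]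
    refine Fintype.sum_equiv (Equiv.mulLeft (⟨y, hy⟩ : Q)) _ _ fun x => ?_
    congr 1
    simp [mul_assoc]
  have hCf : ∀ i, ρ f * C i = C i * ρ f := by
    intro i
    simp only [C, Finset.mul_sum, Finset.sum_mul, ← map_mul]
    let φ : Q ≃ Q :=
      { toFun := fun x => ⟨f * x * f⁻¹, (mem_normalizer_iff.mp hfQ _).mp x.2⟩
        invFun := fun x => ⟨f⁻¹ * x * f, (mem_normalizer_iff'.mp hfQ _).mpr (by simp [mul_assoc])⟩
        left_inv := fun x => Subtype.ext (by simp [mul_assoc])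
        right_inv := fun x => Subtype.ext (by simp [mul_assoc]) }
    refine Fintype.sum_equiv φ _ _ fun x => ?_
    congr 1
    simp only [φ, Equiv.coe_fn_mk]
    have hc : Commute f (f ^ i) := (Commute.refl f).pow_right i
    calc f * ((x : Γ) * f ^ i * (x : Γ)⁻¹) = f * x * f⁻¹ * (f * f ^ i) * (x : Γ)⁻¹ := by group
      _ = f * x * f⁻¹ * (f ^ i * f) * (x : Γ)⁻¹ := by rw [hc.eq]
      _ = f * x * f⁻¹ * f ^ i * (f * x * f⁻¹)⁻¹ * f := by group
  have hc : ∀ i, ∃ c : k, C i = c • 1 := fun i => scalar_of _ (hCQ i) (hCf i)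
  choose c hc using hc
  have hQcard : (Fintype.card Q : k) ≠ 0 := by
    obtain ⟨j, hj⟩ := IsPGroup.iff_card.mp hQ
    rw [Nat.card_eq_fintype_card] at hj
    rw [hj, Nat.cast_pow]
    exact pow_ne_zero _ hq0
  have h1ne : (1 : Module.End k W) ≠ 0 := one_ne_zero
  obtain ⟨i, hi, hi0, hci⟩ : ∃ i ∈ Finset.range p, i ≠ 0 ∧ c i ≠ 0 := by
    by_contra! h
    rw [Finset.sum_eq_single_of_mem 0 (Finset.mem_range.mpr hp.pos) (fun i hi hi0 => by
      rw [hc i, h i hi hi0, zero_smul]), hC0] at hCsum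
    exact (smul_ne_zero hQcard h1ne) hCsum
  have hfS : ρ f ∈ S := by
    let A : Module.End k W := ∑ x : Q, ρ ((x : Γ) * (f ^ i * (x : Γ)⁻¹ * (f ^ i)⁻¹))
    have hAS : A ∈ S := sum_mem fun x _ =>
      hρS _ (mul_mem x.2 ((mem_normalizer_iff.mp (pow_mem hfQ i) _).mp (inv_mem x.2)))
    have hAf : A * ρ f ^ i = c i • 1 := by
      rw [← hc i]
      simp only [A, C, Finset.sum_mul, ← map_pow, ← map_mul]
      refine Finset.sum_congr rfl fun x _ => ?_
      congr 1; group
    have hAf' : (c i)⁻¹ • A * ρ f ^ i = 1 := by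
      rw [smul_mul_assoc, hAf, smul_smul, inv_mul_cancel₀ hci, one_smul]
    have hpow : ρ f ^ (p - i) ∈ S := by
      have h2 : ρ f ^ (p - i) = (c i)⁻¹ • A := by
        calc ρ f ^ (p - i) = ((c i)⁻¹ • A * ρ f ^ i) * ρ f ^ (p - i) := by rw [hAf', one_mul]
          _ = (c i)⁻¹ • A := by
            rw [mul_assoc, ← pow_add, Nat.add_sub_cancel' (Finset.mem_range.mp hi).le, hρf, mul_one]
      rw [h2]; exact S.smul_mem hAS _
    have hip := Finset.mem_range.mp hi
    obtain ⟨m, -, hm⟩ := Nat.exists_mul_mod_eq_one_of_coprime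
      ((Nat.coprime_of_lt_prime (show p - i ≠ 0 by omega) (show p - i < p by omega) hp).symm)
      hp.one_lt
    have h3 := pow_mem hpow m
    rwa [← pow_mul, pow_eq_pow_mod _ hρf, hm, pow_one] at h3
  have hStop : S = ⊤ := subalgebra_eq_top S fun U hU => hirr U (fun y hy => hU _ (hρS y hy)) (hU _ hfS)
  -- elements acting as scalars
  let Z : Subgroup Γ :=
    { carrier := {z | z ∈ Q ∧ ∃ d : k, ρ z = d • 1}
      one_mem' := ⟨one_mem Q, 1, by rw [map_one, one_smul]⟩
      mul_mem' := fun {a b} ha hb => ⟨mul_mem ha.1 hb.1, by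
        obtain ⟨d, hd⟩ := ha.2
        obtain ⟨d', hd'⟩ := hb.2
        exact ⟨d * d', by rw [map_mul, hd, hd', smul_mul_smul_comm, one_mul]⟩⟩
      inv_mem' := fun {a} ha => ⟨inv_mem ha.1, by
        obtain ⟨d, hd⟩ := ha.2
        refine ⟨d⁻¹, ?_⟩
        have h2 : ρ a⁻¹ * ρ a = 1 := by rw [← map_mul, inv_mul_cancel, map_one]
        rw [hd, mul_smul_comm, mul_one] at h2
        have hd0 : d ≠ 0 := fun h => by rw [h, zero_smul] at h2; exact h1ne h2.symm
        rw [← h2, smul_smul, inv_mul_cancel₀ hd0, one_smul]⟩ }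
  have hZcent : ∀ z ∈ Z, ∀ g : Γ, z * g = g * z := fun z ⟨_, d, hd⟩ g => hinj (by
    rw [map_mul, map_mul, hd, smul_mul_assoc, mul_smul_comm, one_mul, mul_one])
  have hZof : ∀ U : Subgroup Γ, U ≤ Q → (∀ u ∈ U, f * u = u * f) →
      (∀ u ∈ U, ∀ y ∈ Q, y * u = u * y) → U ≤ Z := by
    intro U hU hfix' hcen u hu
    refine ⟨hU hu, scalar_of _ (fun y hy => ?_) ?_⟩
    · rw [← map_mul, hcen u hu y hy, map_mul]
    · rw [← map_mul, hfix' u hu, map_mul]
  -- `Q = [Q, f]`
  let A : Subgroup Γ := zpowers f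
  have hAQ : A ≤ normalizer (Q : Set Γ) := zpowers_le.mpr hfQ
  have hS_all : ∀ M : Module.End k W, (∀ y ∈ Q, ρ y * M = M * ρ y) → ρ f * M = M * ρ f :=
    fun M hM => hScomm M hM _ hfS
  have hcopQA : (Nat.card A).Coprime (Nat.card Q) := by
    obtain ⟨j, hj⟩ := IsPGroup.iff_card.mp hQ
    rw [Nat.card_zpowers, hj]
    refine Nat.Coprime.pow_right j ((hp.coprime_iff_not_dvd.mpr fun h => hqp
      ((Nat.prime_dvd_prime_iff_eq hp hq).mp h).symm).coprime_dvd_left (orderOf_dvd_of_pow_eq_one hf))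
  have hQs : Group.IsSolvable Q := by haveI := hQ.isNilpotent; infer_instance
  let U : Subgroup Γ := Q ⊓ centralizer (Q : Set Γ)
  have hUQ : U ≠ Q := by
    intro h
    refine hne fun y hy => hinj ?_
    rw [map_mul, map_mul]
    refine hS_all _ fun z hz => ?_
    have hy' : y ∈ centralizer (Q : Set Γ) := ((h.symm ▸ hy : y ∈ U)).2
    rw [← map_mul, mem_centralizer_iff.mp hy' z hz, map_mul]
  have hUf : f ∈ normalizer (U : Set Γ) := by
    refine mem_normalizer_of_conj_smul_eq ?_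
    rw [conj_smul_inf, conj_smul_eq_self hfQ, conj_smul_eq_self (normalizer_le_normalizer_centralizer Q hfQ)]
  have hUZ : U ≤ Z :=
    hZof U inf_le_left (fun u hu => hcen u hu.1 (Or.inl hu.2)) fun u hu y hy => mem_centralizer_iff.mp hu.2 y hy
  let F : Subgroup Γ := (frattini Q).map Q.subtype
  have hFQ : F ≤ Q := map_subtype_le _
  have hFne : F ≠ Q := by
    intro h
    have htop : frattini Q = ⊤ := map_injective Q.subtype_injective
      (h.trans (by rw [← MonoidHom.range_eq_map, range_subtype]))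
    have : Nontrivial Q := (nontrivial_iff_ne_bot Q).mpr fun h' => hne fun y hy => by
      rw [h', mem_bot] at hy; rw [hy, mul_one, one_mul]
    obtain ⟨M, hM, -⟩ := (eq_top_or_exists_le_coatom (⊥ : Subgroup Q)).resolve_left bot_ne_top
    exact hM.1 (top_le_iff.mp (htop ▸ frattini_le_coatom hM))
  have hFf : f ∈ normalizer (F : Set Γ) := normalizer_le_normalizer_map_frattini Q hfQ
  have hFA : ⁅F, A⁆ = ⊥ := by
    rw [commutator_eq_bot_iff_le_centralizer]
    intro u hu
    refine mem_centralizer_iff.mpr fun a ha => ?_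
    obtain ⟨j, rfl⟩ := mem_zpowers_iff.mp ha
    exact (Commute.zpow_left (hcen u (hFQ hu) (Or.inr hu) : Commute f u) j).eq
  have hFZ : F ≤ Z := by
    refine hZof F hFQ (fun u hu => hcen u (hFQ hu) (Or.inr hu)) ?_
    have hQF : ⁅F, Q⁆ ≤ F :=
      commutator_le_of_le_normalizer' (le_normalizer.trans (normalizer_le_normalizer_map_frattini Q))
    have h1 : ⁅⁅F, Q⁆, A⁆ = ⊥ := eq_bot_iff.mpr ((commutator_mono hQF le_rfl).trans hFA.le)
    have h2 : ⁅⁅A, F⁆, Q⁆ = ⊥ := by rw [commutator_comm A F, hFA, commutator_bot_left]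
    have h3 := commutator_commutator_eq_bot_of_rotate (H₁ := Q) (H₂ := A) (H₃ := F) h2 h1
    rw [hfull] at h3
    exact fun e he y hy => commutatorElement_eq_one_iff_mul_comm.mp
      (mem_bot.mp (h3 ▸ commutator_mem_commutator hy he))
  -- the quotient by the scalars
  let Z' : Subgroup Q := Z.subgroupOf Q
  have hZ'n : Z'.Normal := ⟨fun z hz g => by
    show ((g * z * g⁻¹ : Q) : Γ) ∈ Z
    show (g : Γ) * (z : Γ) * (g : Γ)⁻¹ ∈ Z
    rw [← hZcent (z : Γ) hz (g : Γ), mul_inv_cancel_right]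
    exact hz⟩
  have hcommZ : ∀ a b : Q, ⁅a, b⁆ ∈ Z' := fun a b =>
    hFZ (mem_map_of_mem Q.subtype (PGroupFrattini.commutator_le_frattini hQ
      (commutator_mem_commutator (mem_top a) (mem_top b))))
  let _ : CommGroup (Q ⧸ Z') :=
    { (inferInstance : Group (Q ⧸ Z')) with
      mul_comm := fun x y => by
        obtain ⟨a, rfl⟩ := QuotientGroup.mk'_surjective Z' x
        obtain ⟨b, rfl⟩ := QuotientGroup.mk'_surjective Z' y
        rw [← commutatorElement_eq_one_iff_mul_comm, ← map_commutatorElement]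
        exact (QuotientGroup.eq_one_iff _).mpr (hcommZ a b) }
  let α : MulAut Q := Q.normalizerMonoidHom ⟨f, hfQ⟩
  have hαZ : Z'.map (α : Q →* Q) = Z' := by
    have h1 : ∀ y : Q, y ∈ Z' → α y = y := fun y hy => Subtype.ext (by
      show f * (y : Γ) * f⁻¹ = y
      rw [← hZcent (y : Γ) hy f, mul_inv_cancel_right])
    ext y
    constructor
    · rintro ⟨z, hz, rfl⟩
      show α z ∈ Z'
      rw [h1 z hz]; exact hz
    · exact fun hy => ⟨y, hy, h1 y hy⟩
  let σ : MulAut (Q ⧸ Z') := QuotientGroup.congr Z' Z' α hαZ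
  have hσmk : ∀ (i : ℕ) (y : Q), (σ ^ i) (QuotientGroup.mk' Z' y) = QuotientGroup.mk' Z' ((α ^ i) y) := by
    intro i
    induction i with
    | zero => intro y; rfl
    | succ i ih => intro y; rw [pow_succ', MulAut.mul_apply, ih, pow_succ', MulAut.mul_apply]; rfl
  have hαp : α ^ p = 1 := by
    show (Q.normalizerMonoidHom ⟨f, hfQ⟩) ^ p = 1
    rw [← map_pow, show (⟨f, hfQ⟩ : normalizer (Q : Set Γ)) ^ p = 1 from Subtype.ext hf, map_one]
  have hσp : ∀ x, (σ ^ p) x = x := fun x => by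
    obtain ⟨y, rfl⟩ := QuotientGroup.mk'_surjective Z' x
    rw [hσmk, hαp]; rfl
  -- no fixed points
  let ν : (Q ⧸ Z') →* (Q ⧸ Z') :=
    { toFun := fun x => ∏ i ∈ Finset.range p, (σ ^ i) x
      map_one' := by simp
      map_mul' := fun x y => by simp [Finset.prod_mul_distrib] }
  have hνσ : ∀ x, ν (σ x) = ν x := fun x => by
    show ∏ i ∈ Finset.range p, (σ ^ i) (σ x) = ∏ i ∈ Finset.range p, (σ ^ i) x
    simp only [← MulAut.mul_apply, ← pow_succ]
    exact sum_inv_mul_cancel (f := fun i => (σ ^ i) x) (by rw [hσp]; rfl)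
  have hνσi : ∀ (i : ℕ) x, ν ((σ ^ i) x) = ν x := fun i => by
    induction i with
    | zero => intro x; rfl
    | succ i ih => intro x; rw [pow_succ', MulAut.mul_apply, hνσ, ih]
  have hν : ∀ y : Q, ν (QuotientGroup.mk' Z' y) = 1 := by
    let Kν : Subgroup Γ := (ν.comp (QuotientGroup.mk' Z')).ker.map Q.subtype
    have hle : ⁅Q, A⁆ ≤ Kν := by
      rw [commutator_le]
      intro y hy a ha
      have hfin : IsOfFinOrder f := isOfFinOrder_of_finite f
      obtain ⟨i, rfl⟩ := (Submonoid.mem_powers_iff a f).mp (hfin.mem_powers_iff_mem_zpowers.mpr ha)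
      let y' : Q := ⟨y, hy⟩
      refine ⟨y' * ((α ^ i) y')⁻¹, ?_, ?_⟩
      · rw [SetLike.mem_coe, MonoidHom.mem_ker, MonoidHom.comp_apply, map_mul, map_inv, ← hσmk,
          map_mul, map_inv, hνσi, mul_inv_cancel]
      · have : (((α ^ i) y' : Q) : Γ) = f ^ i * y * (f ^ i)⁻¹ := by
          clear ha
          induction i with
          | zero => simp [y']
          | succ i ih =>
            rw [pow_succ' α, MulAut.mul_apply]
            show f * (((α ^ i) y' : Q) : Γ) * f⁻¹ = _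
            rw [ih, pow_succ']; group
        simp only [map_mul, map_inv, coe_subtype, this, y', commutatorElement_def]
        group
    intro y
    obtain ⟨z, hz, hzy⟩ := hle (hfull.symm ▸ y.2 : (y : Γ) ∈ ⁅Q, A⁆)
    rw [← Q.subtype_injective hzy]
    exact hz
  have hfree : ∀ x, σ x = x → x = 1 := by
    intro x hx
    have h1 : ν x = x ^ p := by
      show ∏ i ∈ Finset.range p, (σ ^ i) x = x ^ p
      have : ∀ i : ℕ, (σ ^ i) x = x := fun i => by
        induction i with
        | zero => rfl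
        | succ i ih => rw [pow_succ', MulAut.mul_apply, ih, hx]
      simp [this]
    obtain ⟨y, rfl⟩ := QuotientGroup.mk'_surjective Z' x
    rw [hν y] at h1
    obtain ⟨j, hj⟩ := hQ y
    refine orderOf_eq_one_iff.mp (Nat.eq_one_of_dvd_coprimes
      (Nat.Coprime.pow_right j ((Nat.coprime_primes hp hq).mpr hqp.symm))
      (orderOf_dvd_of_pow_eq_one h1.symm) (orderOf_dvd_of_pow_eq_one (by rw [← map_pow, hj, map_one])))
  -- the operators indexed by the quotient
  let T : Q ⧸ Z' → Module.End k W := fun x => ρ ((x.out : Q) : Γ)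
  have hTmk : ∀ y : Q, ∃ d : k, ρ (y : Γ) = d • T (QuotientGroup.mk' Z' y) := by
    intro y
    let o : Q := (QuotientGroup.mk' Z' y).out
    have h1 : o⁻¹ * y ∈ Z' := QuotientGroup.eq.mp ((QuotientGroup.mk' Z' y).out_eq)
    obtain ⟨-, d, hd⟩ := h1
    refine ⟨d, ?_⟩
    calc ρ (y : Γ) = ρ (o : Γ) * ρ ((o⁻¹ * y : Q) : Γ) := by rw [← map_mul]; congr 1; simp
      _ = d • T (QuotientGroup.mk' Z' y) := by
        rw [show ρ ((o⁻¹ * y : Q) : Γ) = d • 1 from hd, mul_smul_comm, mul_one]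
  have hspan : Submodule.span k (Set.range T) = ⊤ := by
    have h1 : ∀ M ∈ S, M ∈ Submodule.span k (ρ '' (Q : Set Γ)) := by
      intro M hM
      induction hM using Algebra.adjoin_induction with
      | mem x hx => exact Submodule.subset_span hx
      | algebraMap c =>
        rw [Algebra.algebraMap_eq_smul_one, ← map_one ρ]
        exact Submodule.smul_mem _ _ (Submodule.subset_span ⟨1, Q.one_mem, rfl⟩)
      | add x y _ _ hx hy => exact add_mem hx hy
      | mul x y _ _ hx hy =>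
        have h2 := Submodule.mul_mem_mul hx hy
        rw [Submodule.span_mul_span] at h2
        refine Submodule.span_mono ?_ h2
        rintro _ ⟨_, ⟨a, ha, rfl⟩, _, ⟨b, hb, rfl⟩, rfl⟩
        exact ⟨a * b, Q.mul_mem ha hb, map_mul ρ a b⟩
    refine eq_top_iff.mpr fun M _ => Submodule.span_le.mpr ?_ (h1 M (hStop ▸ Algebra.mem_top))
    rintro _ ⟨y, hy, rfl⟩
    obtain ⟨d, hd⟩ := hTmk ⟨y, hy⟩
    rw [hd]
    exact Submodule.smul_mem _ _ (Submodule.subset_span ⟨_, rfl⟩)
  have hTne : ∀ x, T x ≠ 0 := fun x h => by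
    have h2 : T x * ρ ((x.out : Q) : Γ)⁻¹ = 1 := by rw [← map_mul, mul_inv_cancel, map_one]
    rw [h, zero_mul] at h2; exact h1ne h2.symm
  have hχ : ∀ (x : Q ⧸ Z') (y : Q), ∃ d : k, ρ (y : Γ) * T x = d • (T x * ρ (y : Γ)) := by
    intro x y
    obtain ⟨-, d, hd⟩ := hcommZ y x.out
    refine ⟨d, ?_⟩
    calc ρ (y : Γ) * T x = ρ ((⁅y, x.out⁆ : Q) : Γ) * (T x * ρ (y : Γ)) := by
          rw [← map_mul, ← map_mul, ← map_mul]; congr 1; simp [commutatorElement_def, mul_assoc]
      _ = d • (T x * ρ (y : Γ)) := by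
        rw [show ρ ((⁅y, x.out⁆ : Q) : Γ) = d • 1 from hd, smul_mul_assoc, one_mul]
  choose χ hχ using hχ
  have hTy : ∀ (x : Q ⧸ Z') (y : Q), T x * ρ (y : Γ) ≠ 0 := fun x y h => by
    have h2 : T x * ρ (y : Γ) * ρ (y : Γ)⁻¹ = T x := by
      rw [mul_assoc, ← map_mul, mul_inv_cancel, map_one, mul_one]
    rw [h, zero_mul] at h2; exact hTne x h2.symm
  let χh : Q ⧸ Z' → (Q →* k) := fun x =>
    { toFun := χ x
      map_one' := by
        have h2 := hχ x 1
        rw [OneMemClass.coe_one, map_one, one_mul, mul_one] at h2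
        exact (smul_left_injective k (hTne x) ((one_smul k (T x)).trans h2)).symm
      map_mul' := fun a b => by
        refine smul_left_injective k (hTy x (a * b)) ?_
        show χ x (a * b) • (T x * ρ ((a * b : Q) : Γ)) = (χ x a * χ x b) • (T x * ρ ((a * b : Q) : Γ))
        rw [← hχ, Subgroup.coe_mul, map_mul, mul_assoc, hχ x b, mul_smul_comm, ← mul_assoc, hχ x a,
          smul_mul_assoc, smul_smul, mul_comm, mul_assoc] }
  have hχinj : Function.Injective χh := by
    intro x x' h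
    have hcz : ∀ y : Q, ρ (y : Γ) * ρ ((x.out : Q) * ((x'.out : Q))⁻¹ : Γ) =
        ρ ((x.out : Q) * ((x'.out : Q))⁻¹ : Γ) * ρ (y : Γ) := by
      intro y
      have e : χ x y = χ x' y := DFunLike.congr_fun h y
      have hx' := hχ x' y
      have h2 : ρ (y : Γ) * T x * ρ ((x'.out : Q) : Γ)⁻¹ = T x * ρ ((x'.out : Q) : Γ)⁻¹ * ρ (y : Γ) := by
        rw [hχ x y, e]
        calc χ x' y • (T x * ρ (y : Γ)) * ρ ((x'.out : Q) : Γ)⁻¹
            = T x * ρ ((x'.out : Q) : Γ)⁻¹ * (χ x' y • (T x' * ρ (y : Γ))) * ρ ((x'.out : Q) : Γ)⁻¹ := by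
              simp only [smul_mul_assoc, mul_smul_comm]
              congr 1
              simp only [T, ← map_mul]
              congr 1; group
          _ = _ := by
              rw [← hx']
              simp only [T, ← map_mul]
              congr 1; group
      rw [map_mul, mul_assoc] at *
      rw [← mul_assoc]; exact h2
    have hmem : x.out * x'.out⁻¹ ∈ Z' := hUZ ⟨(x.out * x'.out⁻¹).2, mem_centralizer_iff.mpr fun y hy =>
      hinj ((map_mul ρ _ _).trans ((hcz ⟨y, hy⟩).trans (map_mul ρ _ _).symm))⟩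
    have h3 := (QuotientGroup.eq_one_iff _).mpr hmem
    rw [QuotientGroup.mk_mul, QuotientGroup.mk_inv, QuotientGroup.out_eq', QuotientGroup.out_eq',
      mul_inv_eq_one] at h3
    exact h3
  have := Fintype.ofFinite (Q ⧸ Z')
  have hli : LinearIndependent k T := by
    rw [Fintype.linearIndependent_iff]
    intro a ha x
    have key : ∀ y : Q, ∑ z, (a z * χ z y) • T z = 0 := fun y => by
      have h2 : ρ (y : Γ) * (∑ z, a z • T z) * ρ (y : Γ)⁻¹ = 0 := by rw [ha, mul_zero, zero_mul]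
      rw [Finset.mul_sum, Finset.sum_mul] at h2
      refine Eq.trans (Finset.sum_congr rfl fun z _ => ?_) h2
      rw [mul_smul_comm, hχ, smul_smul, smul_mul_assoc, mul_assoc, ← map_mul, mul_inv_cancel, map_one,
        mul_one]
    by_contra hax
    apply hTne x
    by_contra hTx
    obtain ⟨L, hL⟩ : ∃ L : Module.End k W →ₗ[k] k, L (T x) ≠ 0 := by
      by_contra! hL
      exact hTx ((Module.forall_dual_apply_eq_zero_iff k (T x)).mp hL)
    have h3 : ∑ z, (a z * L (T z)) • (χh z : Q → k) = 0 := funext fun y => by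
      have h4 := congrArg L (key y)
      simp only [map_sum, map_smul, map_zero, smul_eq_mul] at h4
      simp only [Finset.sum_apply, Pi.smul_apply, smul_eq_mul, Pi.zero_apply]
      refine Eq.trans (Finset.sum_congr rfl fun z _ => ?_) h4
      show a z * L (T z) * χ z y = a z * χ z y * L (T z)
      ring
    have h5 := Fintype.linearIndependent_iff.mp
      ((linearIndependent_monoidHom Q k).comp χh hχinj) _ h3 x
    exact (mul_ne_zero hax hL) h5
  have hN : Fintype.card (Q ⧸ Z') = Module.finrank k (Module.End k W) := by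
    refine le_antisymm hli.fintype_card_le_finrank ?_
    have := finrank_range_le_card (R := k) T
    rwa [Set.finrank, hspan, finrank_top] at this
  -- counting
  have hFG : ρ f⁻¹ * ρ f = 1 := by rw [← map_mul, inv_mul_cancel, map_one]
  have hTσ : ∀ x, ∃ d : k, ρ f * T x * ρ f⁻¹ = d • T ((σ : Q ⧸ Z' ≃ Q ⧸ Z') x) := by
    intro x
    obtain ⟨d, hd⟩ := hTmk (α x.out)
    refine ⟨d, ?_⟩
    have e : (σ : Q ⧸ Z' ≃ Q ⧸ Z') x = QuotientGroup.mk' Z' (α x.out) := by
      conv_lhs => rw [← QuotientGroup.out_eq' x]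
      rfl
    rw [e, ← hd, ← map_mul, ← map_mul]
    rfl
  have hσperm : ∀ i : ℕ, ∀ x, (((σ : Q ⧸ Z' ≃ Q ⧸ Z') : Equiv.Perm (Q ⧸ Z')) ^ i) x = (σ ^ i) x := by
    intro i
    induction i with
    | zero => intro x; rfl
    | succ i ih => intro x; rw [pow_succ', Equiv.Perm.mul_apply, ih, pow_succ', MulAut.mul_apply]; rfl
  have hcount := mul_finrank_centralizer_le hp hp0 hFG hρf (σ : Q ⧸ Z' ≃ Q ⧸ Z') 1
    (Equiv.ext fun x => (hσperm p x).trans (hσp x)) hfree (map_one σ) T hTσ hspan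
  have hlarge := sq_le_mul_finrank_centralizer hp0 hρf hsum
  rw [hN] at hcount
  rw [Module.finrank_linearMap, ← sq] at hcount hN
  set n := Module.finrank k W with hn
  set c' := Module.finrank k (Subalgebra.centralizer k ({ρ f} : Set (Module.End k W))) with hc'
  have hn1 : 1 ≤ n := Module.finrank_pos
  have hNpow : ∃ j, n ^ 2 = q ^ j := by
    obtain ⟨j, hj⟩ := IsPGroup.iff_card.mp (hQ.to_quotient Z')
    exact ⟨j, by rw [← hN, ← Nat.card_eq_fintype_card]; exact hj⟩
  have hmodp : (Fintype.card (Q ⧸ Z')) ≡ 1 [MOD p] := by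
    have hpg : IsPGroup p (zpowers σ) := by
      intro g
      obtain ⟨g, hg⟩ := g
      obtain ⟨j, rfl⟩ := mem_zpowers_iff.mp hg
      refine ⟨1, Subtype.ext ?_⟩
      have hσ1 : σ ^ p = 1 := MulEquiv.ext hσp
      rw [pow_one, SubmonoidClass.coe_pow, ← zpow_natCast, ← zpow_mul, mul_comm, zpow_mul, zpow_natCast,
        hσ1, one_zpow]
      rfl
    have hfix : Nat.card (MulAction.fixedPoints (zpowers σ) (Q ⧸ Z')) = 1 := by
      have hs : MulAction.fixedPoints (zpowers σ) (Q ⧸ Z') = {1} :=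
        Set.ext fun x => ⟨fun hx => hfree x (hx ⟨σ, mem_zpowers σ⟩), fun hx g => by
          rw [Set.mem_singleton_iff.mp hx]; exact map_one (g : MulAut (Q ⧸ Z'))⟩
      rw [hs, Nat.card_coe_set_eq, Set.ncard_singleton]
    haveI := Fact.mk hp
    have h2 := hpg.card_modEq_card_fixedPoints (Q ⧸ Z')
    rwa [hfix, Nat.card_eq_fintype_card] at h2
  rw [hN] at hmodp
  have hp2 := hp.two_le
  have hbound : n ≤ p - 1 := by
    by_contra hlt
    obtain ⟨d, rfl⟩ : ∃ d, p = d + 2 := ⟨p - 2, by omega⟩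
    simp only [show d + 2 - 1 = d + 1 from rfl] at hlarge hlt
    have h1 : (d + 2) * n ^ 2 ≤ (d + 1) * ((d + 2) * c') := by nlinarith
    have h2 : (d + 1) * ((d + 2) * c') ≤ (d + 1) * (n ^ 2 - 1 + (d + 2)) := Nat.mul_le_mul_left _ hcount
    have h3 : (d + 2) * (d + 2) ≤ n ^ 2 := by nlinarith
    obtain ⟨M, hM⟩ : ∃ M, n ^ 2 = M + 1 :=
      ⟨n ^ 2 - 1, (Nat.sub_add_cancel (Nat.one_le_pow 2 n hn1)).symm⟩
    rw [hM, Nat.add_sub_cancel] at h2
    nlinarith
  have hdvd : p ∣ (n - 1) * (n + 1) := by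
    have h1 := (Nat.modEq_iff_dvd' (Nat.one_le_pow _ _ hn1)).mp hmodp.symm
    rwa [mul_comm, ← Nat.sq_sub_sq, one_pow]
  have hrel : (Q ⊓ centralizer (Q : Set Γ)).relIndex Q = n ^ 2 := by
    have hZU : Z' = U.subgroupOf Q := by
      refine le_antisymm (fun y hy => ⟨y.2, mem_centralizer_iff.mpr fun z _ => (hZcent _ hy z).symm⟩)
        fun y hy => hUZ hy
    rw [← hN, ← Nat.card_eq_fintype_card]
    show (U.subgroupOf Q).index = _
    rw [← hZU]
    exact index_eq_card Z'
  rw [hrel]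
  rcases hp.dvd_mul.mp hdvd with h | h
  · exfalso
    have hn0 : n = 1 := by
      rcases Nat.eq_zero_or_pos (n - 1) with h' | h'
      · omega
      · have := Nat.le_of_dvd h' h; omega
    rw [hn0, one_pow] at hN
    have hall : ∀ y : Q, y ∈ Z' := fun y => (QuotientGroup.eq_one_iff y).mp
      ((Fintype.card_le_one_iff.mp hN.le) _ _)
    exact hUQ (le_antisymm inf_le_left fun y hy => ⟨hy, mem_centralizer_iff.mpr fun z _ =>
      (hZcent y (hall ⟨y, hy⟩) z).symm⟩)
  · have := Nat.le_of_dvd (by omega) h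
    rw [show n = p - 1 by omega]

end Cfsg.Agent.Lib.FitHeight
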