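import Cfsg.Agent.Lib.FitHeight.WardCore
import Cfsg.Agent.Lib.FitHeight.Reduce
import Mathlib.GroupTheory.GroupAction.FixingSubgroup
import Mathlib.GroupTheory.SchurZassenhaus

/-! For operators `A` whose proper subgroups have prime order or are trivial, every piece of an
elementary abelian normal subgroup lies in the part of `V` where some subgroup of `A` of prime order
has no fixed points, uniformly along an `H`-orbit. -/

set_option autoImplicit false

namespace Cfsg.Agent.Lib.FitHeight

open scoped Pointwise commutatorElement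
open Subgroup Cfsg.Agent.Lib.Coprime Cfsg.Agent.Lib.Hall

variable {Γ : Type*} [Group Γ] [Finite Γ] {V : Type*} [CommGroup V] [MulDistribMulAction Γ V]

theorem orbProd_map_conj (B : Subgroup Γ) (g : Γ) (v : V) :
    orbProd (B.map (MulAut.conj g).toMonoidHom) (g • v) = g • orbProd B v := by
  classical
  have := Fintype.ofFinite B
  have := Fintype.ofFinite (B.map (MulAut.conj g).toMonoidHom : Subgroup Γ)
  rw [orbProd_eq, orbProd_eq, Finset.smul_prod']
  refine (Fintype.prod_equiv
    (equivMapOfInjective B (MulAut.conj g).toMonoidHom (MulAut.conj g).injective).toEquiv _ _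
    fun b => ?_).symm
  show g • (b : Γ) • v = (g * (b : Γ) * g⁻¹) • g • v
  rw [smul_smul, smul_smul, inv_mul_cancel_right]

theorem orbProd_zpowers (f : Γ) (v : V) : orbProd (zpowers f) v = cycProd f (orderOf f) v := by
  classical
  have := Fintype.ofFinite (zpowers f)
  rw [orbProd_eq, cycProd, Finset.prod_range]
  exact (Fintype.prod_equiv (finEquivZPowers (isOfFinOrder_of_finite f)) _ _ fun i => rfl).symm

section part

variable (H B : Subgroup Γ)

/-- The vectors all of whose `H`-translates have trivial `B`-product. -/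
noncomputable def fpfPart : Subgroup V where
  carrier := {v | ∀ h ∈ H, orbProd B (h • v) = 1}
  one_mem' := fun h _ => by rw [smul_one, orbProd_of_fixed B fun b _ => smul_one b, one_pow]
  mul_mem' := fun ha hb h hh => by rw [smul_mul', orbProd_mul, ha h hh, hb h hh, one_mul]
  inv_mem' := fun ha h hh => by rw [smul_inv', orbProd_inv, ha h hh, inv_one]

theorem smul_fpfPart_of_mem {h : Γ} (hh : h ∈ H) {v : V} (hv : v ∈ fpfPart H B) :
    h • v ∈ fpfPart (V := V) H B := fun k hk => by
  rw [smul_smul]; exact hv _ (H.mul_mem hk hh)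

theorem smul_fpfPart [H.Normal] (g : Γ) {v : V} (hv : v ∈ fpfPart H B) :
    g • v ∈ fpfPart (V := V) H (B.map (MulAut.conj g).toMonoidHom) := fun h hh => by
  have h1 := hv (g⁻¹ * h * g) (by simpa using (inferInstance : H.Normal).conj_mem h hh g⁻¹)
  have h2 := orbProd_map_conj B g ((g⁻¹ * h * g) • v)
  rw [h1, smul_one] at h2
  rw [smul_smul] at h2 ⊢
  simpa [mul_assoc] using h2

theorem smul_fpfPart_normalizer [H.Normal] {g : Γ} (hg : g ∈ normalizer (B : Set Γ)) {v : V}
    (hv : v ∈ fpfPart H B) : g • v ∈ fpfPart (V := V) H B := by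
  have h := smul_fpfPart H B g hv
  rwa [show B.map (MulAut.conj g).toMonoidHom = B from conj_smul_eq_self hg] at h

theorem orbProd_eq_one_of_mem_fpfPart {v : V} (hv : v ∈ fpfPart H B) : orbProd B v = 1 := by
  simpa using hv 1 H.one_mem

/-- The kernel of `H` on the part of `B`. -/
noncomputable def partKer : Subgroup Γ := H ⊓ fixingSubgroup Γ ((fpfPart (V := V) H B : Subgroup V) : Set V)

theorem mem_partKer {x : Γ} :
    x ∈ partKer (V := V) H B ↔ x ∈ H ∧ ∀ v ∈ fpfPart (V := V) H B, x • v = v := by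
  rw [partKer, mem_inf, mem_fixingSubgroup_iff]
  rfl

theorem conj_mem_partKer [H.Normal] (g : Γ) {x : Γ} (hx : x ∈ partKer (V := V) H B) :
    g * x * g⁻¹ ∈ partKer (V := V) H (B.map (MulAut.conj g).toMonoidHom) := by
  rw [mem_partKer] at hx ⊢
  refine ⟨(inferInstance : H.Normal).conj_mem x hx.1 g, fun v hv => ?_⟩
  have h1 := smul_fpfPart H (B.map (MulAut.conj g).toMonoidHom) g⁻¹ hv
  have e : (B.map (MulAut.conj g).toMonoidHom).map (MulAut.conj g⁻¹).toMonoidHom = B := by
    rw [Subgroup.map_map]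
    conv_rhs => rw [← Subgroup.map_id B]
    congr 1
    exact MonoidHom.ext fun y => by simp [mul_assoc]
  rw [e] at h1
  rw [mul_smul, mul_smul, hx.2 _ h1, smul_inv_smul]

theorem conj_mem_partKer_of_mem [H.Normal] {h : Γ} (hh : h ∈ H) {x : Γ} (hx : x ∈ partKer (V := V) H B) :
    h * x * h⁻¹ ∈ partKer (V := V) H B := by
  rw [mem_partKer] at hx ⊢
  exact ⟨(inferInstance : H.Normal).conj_mem x hx.1 h, fun v hv => by
    rw [mul_smul, mul_smul, hx.2 _ (smul_fpfPart_of_mem H B (H.inv_mem hh) hv), smul_inv_smul]⟩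

theorem conj_mem_partKer_normalizer [H.Normal] {g : Γ} (hg : g ∈ normalizer (B : Set Γ)) {x : Γ}
    (hx : x ∈ partKer (V := V) H B) : g * x * g⁻¹ ∈ partKer (V := V) H B := by
  have h := conj_mem_partKer H B g hx
  rwa [show B.map (MulAut.conj g).toMonoidHom = B from conj_smul_eq_self hg] at h

end part

/-- Coprime operators `A` without fixed points on `H` and on the faithful `H`-module `V`. -/
structure CoreData (V : Type*) [CommGroup V] [MulDistribMulAction Γ V] (H A : Subgroup Γ) (l : ℕ) :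
    Prop where
  normal : H.Normal
  sup : H ⊔ A = ⊤
  solv : Group.IsSolvable H
  asolv : Group.IsSolvable A
  cop : (Nat.card A).Coprime (Nat.card H)
  fpf : H ⊓ centralizer (A : Set Γ) = ⊥
  hl : l.Prime
  hVl : ∀ v : V, v ^ l = 1
  hlA : l.Coprime (Nat.card A)
  hVA : ∀ v : V, (∀ a ∈ A, a • v = v) → v = 1
  faith : ∀ h ∈ H, (∀ v : V, h • v = v) → h = 1
  core : ∀ M : Subgroup Γ, M.Normal → M ≤ H → IsPGroup l M → M = ⊥
  hmin : ∀ C : Subgroup Γ, C ≤ A → C ≠ A → C ≠ ⊥ → (Nat.card C).Prime

variable {H A : Subgroup Γ} {l : ℕ}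

theorem CoreData.coprime_card [Finite V] (D : CoreData V H A l) {n : ℕ} (hn : n.Coprime l) :
    n.Coprime (Nat.card V) := by
  haveI := Fact.mk D.hl
  obtain ⟨i, hi⟩ := IsPGroup.iff_card.mp (show IsPGroup l V from fun v => ⟨1, by rw [pow_one]; exact D.hVl v⟩)
  rw [hi]
  exact hn.pow_right i

/-- A vector of a piece fixed by the operators good for it is trivial. -/
theorem CoreData.eq_one_of_good [Finite V] (D : CoreData V H A l) {E K : Subgroup Γ} [E.Normal] {q : ℕ}
    (hq : q.Prime) (hEc : ∀ a ∈ E, ∀ b ∈ E, a * b = b * a) (hKE : K ≤ E) (hK : K.relIndex E = q)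
    (hcop : (Nat.card E).Coprime (Nat.card V)) {u : V} (hu : u ∈ piece E K)
    (hfix : ∀ x ∈ A, x ∈ goodGroup E K → x • u = u) : u = 1 := by
  classical
  have := Fintype.ofFinite E
  have := Fintype.ofFinite A
  have hnE : ∀ g : Γ, g ∈ normalizer (E : Set Γ) := fun g => by rw [normalizer_eq_top]; exact mem_top g
  let F : Γ → (E →* E) := fun x =>
    { toFun := fun e => ⟨(e : Γ)⁻¹ * (x * e * x⁻¹),
        mul_mem (inv_mem e.2) ((inferInstance : E.Normal).conj_mem _ e.2 x)⟩
      map_one' := by ext; simp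
      map_mul' := fun e e' => by
        ext
        simp only [Subgroup.coe_mul]
        calc ((e : Γ) * e')⁻¹ * (x * ((e : Γ) * e') * x⁻¹)
            = (e' : Γ)⁻¹ * ((e : Γ)⁻¹ * (x * e * x⁻¹)) * (x * e' * x⁻¹) := by group
          _ = (e : Γ)⁻¹ * (x * e * x⁻¹) * ((e' : Γ)⁻¹ * (x * e' * x⁻¹)) := by
            rw [hEc _ (inv_mem e'.2) _ (mul_mem (inv_mem e.2)
              ((inferInstance : E.Normal).conj_mem _ e.2 x)), mul_assoc] }
  have h0 : ∀ e : E, ∏ a : A, (F a e : Γ) • ((a : Γ) • u) = 1 := fun e => by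
    have h1 := D.hVA _ (fun a ha => smul_orbProd A ha ((e : Γ) • u))
    have h2 := congrArg (fun v => (e : Γ)⁻¹ • v) h1
    simp only [smul_one, orbProd_eq, Finset.smul_prod', smul_smul] at h2
    refine Eq.trans (Finset.prod_congr rfl fun a _ => ?_) h2
    rw [smul_smul]
    congr 1
    simp [F, mul_assoc]
  have hterm : ∀ a : A, ∏ e : E, (F a e : Γ) • ((a : Γ) • u) =
      if (a : Γ) ∈ goodGroup E K then u ^ Nat.card E else 1 := by
    intro a
    split_ifs with ha
    · rw [hfix a a.2 ha, Nat.card_eq_fintype_card, Finset.prod_congr rfl fun (e : E) _ =>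
        (hu.1 _ (ha.2 e e.2) : (F a e : Γ) • u = u), Finset.prod_const, Finset.card_univ]
    · let L : Subgroup Γ := K.map (MulAut.conj (a : Γ)).toMonoidHom
      have hLE : L ≤ E := by
        rintro _ ⟨k, hk, rfl⟩; exact (inferInstance : E.Normal).conj_mem k (hKE hk) a
      have hLq : L.relIndex E = q := by
        have hEE : E.map (MulAut.conj (a : Γ)).toMonoidHom = E := conj_smul_eq_self (hnE a)
        conv_lhs => rw [← hEE]
        rw [← hK]
        exact relIndex_map_map_of_injective K E (MulAut.conj (a : Γ)).injective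
      have hLn : (L.subgroupOf E).Normal := ⟨fun x hx g => by
        show ((g * x * g⁻¹ : E) : Γ) ∈ L
        have : ((g * x * g⁻¹ : E) : Γ) = (x : Γ) := by
          rw [Subgroup.coe_mul, Subgroup.coe_mul, Subgroup.coe_inv, hEc g g.2 x x.2, mul_inv_cancel_right]
        rw [this]; exact hx⟩
      have hS : ¬ (F a).range ≤ L.subgroupOf E := by
        intro hle
        have hin : ∀ x ∈ E, x⁻¹ * ((a : Γ) * x * (a : Γ)⁻¹) ∈ L := fun x hx => hle ⟨⟨x, hx⟩, rfl⟩
        have hKL : K ≤ L := fun k hk => by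
          have h1 : (a : Γ) * k * (a : Γ)⁻¹ ∈ L := mem_map_of_mem (MulAut.conj (a : Γ)).toMonoidHom hk
          have h2 := L.mul_mem h1 (L.inv_mem (hin k (hKE hk)))
          rwa [mul_inv_rev, inv_inv, mul_inv_cancel_left] at h2
        have hLK : K = L := eq_of_le_of_card_ge hKL
          (card_map_of_injective (MulAut.conj (a : Γ)).injective).le
        exact ha ⟨hnE a, fun e he => hLK ▸ hin e he⟩
      refine prod_hom_smul E hcop (F a) (L := L) (fun e he => ?_) (fun x hx => ?_) ?_ hEc hLE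
      · have hidx : (L.subgroupOf E).index = q := hLq
        have htop : L.subgroupOf E ⊔ (F a).range = ⊤ := by
          refine index_eq_one.mp ?_
          rcases (Nat.dvd_prime hq).mp (hidx ▸ index_dvd_of_le
            (le_sup_left : L.subgroupOf E ≤ L.subgroupOf E ⊔ (F a).range)) with h | h
          · exact h
          · exfalso
            refine hS (le_trans le_sup_right (le_of_eq (eq_of_le_of_card_ge le_sup_left ?_).symm))
            refine le_of_eq (Nat.eq_of_mul_eq_mul_right hq.pos ?_)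
            conv_lhs => rw [← h, card_mul_index]
            rw [← hidx]
            exact (card_mul_index (L.subgroupOf E)).symm
        obtain ⟨x, hx, s, hs, hxs⟩ := mem_sup_of_normal_left.mp (htop ▸ mem_top (⟨e, he⟩ : E))
        obtain ⟨s', rfl⟩ := hs
        exact ⟨x, hx, s', (congrArg Subtype.val hxs).symm⟩
      · obtain ⟨k, hk, rfl⟩ := hx
        show ((a : Γ) * k * (a : Γ)⁻¹) • ((a : Γ) • u) = (a : Γ) • u
        rw [mul_smul, inv_smul_smul, mul_smul, hu.1 k hk]
      · rw [orbProd_smul_normalizer E (hnE a), hu.2, smul_one]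
  have h3 : ∏ a : A, ∏ e : E, (F a e : Γ) • ((a : Γ) • u) = 1 := by
    rw [Finset.prod_comm]; exact Finset.prod_eq_one fun e _ => h0 e
  rw [Finset.prod_congr rfl fun a _ => hterm a, Finset.prod_ite, Finset.prod_const, Finset.prod_const_one,
    mul_one, ← pow_mul] at h3
  refine pow_injective_of_coprime ?_ h3
  refine Nat.Coprime.mul_left hcop ((D.coprime_card (D.hlA.symm)).coprime_dvd_left ?_)
  have h4 := card_subgroup_dvd_card ((goodGroup E K).subgroupOf A)
  rw [Nat.card_eq_fintype_card (α := (goodGroup E K).subgroupOf A)] at h4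
  convert h4 using 1
  rw [Fintype.card_subtype]
  congr 1

theorem CoreData.not_le_good_sup (D : CoreData V H A l) {E K : Subgroup Γ} [E.Normal] {q : ℕ}
    (hq : q.Prime) (hEH : E ≤ H) (hKE : K ≤ E) (hK : K.relIndex E = q) : ¬ A ≤ goodGroup E K ⊔ H := by
  intro hle
  have := D.normal
  have hsolvH := D.solv
  have htop : goodGroup E K ⊔ H = ⊤ := top_le_iff.mp (D.sup ▸ sup_le le_sup_right hle)
  have hAH : A ≤ normalizer (H : Set Γ) := by rw [normalizer_eq_top]; exact le_top
  have hidx : H.index = Nat.card A := by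
    have h1 := card_sup_of_coprime hAH D.cop
    rw [sup_comm, D.sup] at h1
    have h2 := H.card_mul_index
    rw [Subgroup.card_top] at h1
    rw [h1, mul_comm (Nat.card A)] at h2
    exact Nat.eq_of_mul_eq_mul_left Nat.card_pos h2
  let N : Subgroup (goodGroup E K) := H.subgroupOf (goodGroup E K)
  have hNi : N.index = Nat.card A := by
    show H.relIndex (goodGroup E K) = Nat.card A
    rw [← relIndex_sup_right, htop, relIndex_top_right, hidx]
  have hcopN : (Nat.card N).Coprime N.index := by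
    rw [hNi, card_subgroupOf_inf]
    exact D.cop.symm.coprime_dvd_left (card_dvd_of_le inf_le_left)
  obtain ⟨T, hT⟩ := exists_right_complement'_of_coprime hcopN
  let T' : Subgroup Γ := T.map (goodGroup E K).subtype
  have hT' : Nat.card T' = H.index := by
    rw [card_map_of_injective (goodGroup E K).subtype_injective, ← hT.symm.index_eq_card, hNi, hidx]
  obtain ⟨g, hg⟩ := exists_conj_eq_of_card_eq H (by rw [hidx]; exact D.cop.symm) (Or.inl hsolvH) hT' hidx.symm
  let K' : Subgroup Γ := K.map (MulAut.conj g).toMonoidHom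
  have hK'E : K' ≤ E := by
    rintro _ ⟨k, hk, rfl⟩; exact (inferInstance : E.Normal).conj_mem k (hKE hk) g
  have hAgood : ∀ a ∈ A, ∀ e ∈ E, e⁻¹ * (a * e * a⁻¹) ∈ K' := by
    intro a ha e he
    rw [← hg, mem_conj_smul] at ha
    have ht : g⁻¹ * a * g ∈ goodGroup E K := map_subtype_le _ ha
    have he' : g⁻¹ * e * g ∈ E := by simpa using (inferInstance : E.Normal).conj_mem e he g⁻¹
    refine ⟨_, ht.2 _ he', ?_⟩
    simp [mul_assoc]
  have hEA : A ≤ normalizer (E : Set Γ) := by rw [normalizer_eq_top]; exact le_top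
  have hEcop : (Nat.card A).Coprime (Nat.card E) := D.cop.coprime_dvd_right (card_dvd_of_le hEH)
  have h1 := commutator_sup_centralizer hEA hEcop (Or.inl D.asolv)
  have h2 : E ⊓ centralizer (A : Set Γ) = ⊥ := eq_bot_iff.mpr ((inf_le_inf_right _ hEH).trans D.fpf.le)
  rw [h2, sup_bot_eq] at h1
  have hEK : E ≤ K' := by
    rw [← h1, commutator_le]
    intro e he a ha
    have := hAgood a ha e⁻¹ (inv_mem he)
    simpa [commutatorElement_def, mul_assoc] using this
  have h3 : K'.relIndex E = q := by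
    have hEE : E.map (MulAut.conj g).toMonoidHom = E :=
      conj_smul_eq_self (by rw [normalizer_eq_top]; exact mem_top g)
    conv_lhs => rw [← hEE]
    rw [← hK]
    exact relIndex_map_map_of_injective K E (MulAut.conj g).injective
  rw [relIndex_eq_one.mpr hEK] at h3
  exact hq.ne_one h3.symm

/-- Every nontrivial piece lies in the part of some operator subgroup of prime order. -/
theorem CoreData.exists_mem_fpfPart [Finite V] (D : CoreData V H A l) {E K : Subgroup Γ} [E.Normal]
    {q : ℕ} (hq : q.Prime) (hEH : E ≤ H) (hEc : ∀ a ∈ E, ∀ b ∈ E, a * b = b * a) (hKE : K ≤ E)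
    (hK : K.relIndex E = q) (hcop : (Nat.card E).Coprime (Nat.card V)) {w : V} (hw : w ∈ piece E K)
    (hw1 : w ≠ 1) : ∃ B : Subgroup Γ, B ≤ A ∧ (Nat.card B).Prime ∧ w ∈ fpfPart H B := by
  classical
  have := D.normal
  let B : Subgroup Γ := A ⊓ goodGroup E K
  let C : Subgroup Γ := A ⊓ (goodGroup E K ⊔ H)
  have hbot : ∀ (K' : Subgroup Γ), K' ≤ E → K'.relIndex E = q → ∀ u ∈ piece (V := V) E K', u ≠ 1 →
      A ⊓ goodGroup E K' ≠ ⊥ := fun K' hK'E hK' u hu hu1 h => hu1 (D.eq_one_of_good hq hEc hK'E hK' hcop hu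
    fun x hx hxg => by rw [mem_bot.mp (h ▸ ⟨hx, hxg⟩ : x ∈ (⊥ : Subgroup Γ)), one_smul])
  have hBC : B ≤ C := inf_le_inf_left _ le_sup_left
  have hCA : C ≠ A := fun h => D.not_le_good_sup hq hEH hKE hK (h ▸ inf_le_right)
  have hB : B ≠ ⊥ := hbot K hKE hK w hw hw1
  have hCp : (Nat.card C).Prime := D.hmin C inf_le_left hCA fun h => hB (eq_bot_iff.mpr (h ▸ hBC))
  have huniq : ∀ B' : Subgroup Γ, B' ≤ C → B' ≠ ⊥ → B' = C := fun B' h1 h2 => by
    refine eq_of_le_of_card_ge h1 (le_of_eq ?_)
    rcases (Nat.dvd_prime hCp).mp (card_dvd_of_le h1) with h | h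
    · exact absurd (eq_bot_of_card_eq B' h) h2
    · exact h.symm
  have hBCeq := huniq B hBC hB
  refine ⟨B, inf_le_left, hBCeq ▸ hCp, fun h hh => ?_⟩
  let K' : Subgroup Γ := K.map (MulAut.conj h).toMonoidHom
  have hK'E : K' ≤ E := by
    rintro _ ⟨k, hk, rfl⟩; exact (inferInstance : E.Normal).conj_mem k (hKE hk) h
  have hK' : K'.relIndex E = q := by
    have hEE : E.map (MulAut.conj h).toMonoidHom = E :=
      conj_smul_eq_self (by rw [normalizer_eq_top]; exact mem_top h)
    conv_lhs => rw [← hEE]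
    rw [← hK]
    exact relIndex_map_map_of_injective K E (MulAut.conj h).injective
  have hv : h • w ∈ piece (V := V) E K' := by
    refine ⟨?_, by rw [orbProd_smul_normalizer E (by rw [normalizer_eq_top]; exact mem_top h), hw.2, smul_one]⟩
    rintro _ ⟨k, hk, rfl⟩
    show (h * k * h⁻¹) • h • w = h • w
    rw [mul_smul, inv_smul_smul, mul_smul, hw.1 k hk]
  have hv1 : h • w ≠ 1 := fun e => hw1 (by rw [← inv_smul_smul h w, e, smul_one])
  have hB'C : A ⊓ goodGroup E K' ≤ C := by
    rintro x ⟨hxA, hxg⟩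
    refine ⟨hxA, ?_⟩
    have hy : h⁻¹ * x * h ∈ goodGroup E K := by
      refine ⟨by rw [normalizer_eq_top]; exact mem_top _, fun e he => ?_⟩
      obtain ⟨k, hk, hke⟩ := hxg.2 _ ((inferInstance : E.Normal).conj_mem e he h)
      have : e⁻¹ * (h⁻¹ * x * h * e * (h⁻¹ * x * h)⁻¹) = k := by
        have h2 : k = h⁻¹ * ((MulAut.conj h).toMonoidHom k) * h := by simp [mul_assoc]
        rw [h2, hke]; group
      rw [this]; exact hk
    have : x = h * (h⁻¹ * x * h) * h⁻¹ := by group
    rw [this]
    exact mul_mem (mul_mem (mem_sup_right hh) (mem_sup_left hy)) (mem_sup_right (H.inv_mem hh))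
  have hBB' : A ⊓ goodGroup E K' = B :=
    (huniq _ hB'C (hbot K' hK'E hK' _ hv hv1)).trans hBCeq.symm
  refine D.eq_one_of_good hq hEc hK'E hK' hcop ?_ fun x hx hxg => smul_orbProd B (hBB' ▸ ⟨hx, hxg⟩) _
  have := Fintype.ofFinite B
  rw [orbProd_eq]
  exact prod_mem fun b _ => smul_piece E K' (by rw [normalizer_eq_top]; exact mem_top _)
    (goodGroup_le_normalizer hK'E (hBB'.symm.le b.2).2) hv

/-- A normal subgroup of `H` trivial on all the parts is trivial. -/
theorem CoreData.eq_bot_of_le_partKer [Finite V] (D : CoreData V H A l) (M : Subgroup Γ) [M.Normal]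
    (hMH : M ≤ H) (hM : ∀ B : Subgroup Γ, B ≤ A → (Nat.card B).Prime → M ≤ partKer (V := V) H B) :
    M = ⊥ := by
  by_contra hne
  obtain ⟨E, hEn, hE1, hEM, hmin⟩ := exists_minimal_normal_le hne
  have hEH : E ≤ H := hEM.trans hMH
  have : Group.IsSolvable E := Coprime.isSolvable_of_le hEH D.solv
  obtain ⟨hEc, q, hq, hexp⟩ := minimal_normal_solvable E hE1 hmin
  have hEc' : ∀ a ∈ E, ∀ b ∈ E, a * b = b * a := fun a ha b hb =>
    congrArg Subtype.val (hEc.is_comm.comm (⟨a, ha⟩ : E) ⟨b, hb⟩)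
  have hql : q ≠ l := fun e => hE1 (D.core E hEn hEH (e ▸ isPGroup_of_pow_eq_one hexp))
  have hcop : (Nat.card E).Coprime (Nat.card V) := by
    haveI := Fact.mk hq
    obtain ⟨i, hi⟩ := IsPGroup.iff_card.mp (isPGroup_of_pow_eq_one hexp)
    rw [hi]
    exact Nat.Coprime.pow_left i (D.coprime_card ((Nat.coprime_primes hq D.hl).mpr hql))
  obtain ⟨e, he, he1⟩ := (bot_or_exists_ne_one E).resolve_left hE1
  have hmove : ∃ e ∈ E, ∃ v : V, e • v ≠ v := ⟨e, he, by
    by_contra! h
    exact he1 (D.faith e (hEH he) h)⟩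
  obtain ⟨K, hKE, hK, w, hw, hw1⟩ := exists_piece_ne_bot E hq hexp hEc' hcop hmove
  obtain ⟨B, hBA, hBp, hwB⟩ := D.exists_mem_fpfPart hq hEH hEc' hKE hK hcop hw hw1
  refine hw1 (pow_injective_of_coprime hcop ?_)
  rw [← orbProd_of_fixed E fun x hx => ((mem_partKer H B).mp (hM B hBA hBp (hEM hx))).2 w hwB]
  exact hw.2

end Cfsg.Agent.Lib.FitHeight
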