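import Cfsg.Agent.Lib.FitHeight.Operators
import Cfsg.Agent.Lib.PGroupFrattini
import Mathlib.GroupTheory.Commutator.Basic

/-! The module-theoretic core of Ward's theorem on fixed-point-free elementary abelian operator
groups. -/

set_option autoImplicit false

namespace Cfsg.Agent.Lib.FitHeight

open scoped Pointwise commutatorElement
open Subgroup Cfsg.Agent.Lib.Coprime

variable {Γ : Type*} [Group Γ]

/-- The elements normalising `E` and centralising `E` modulo `K`. -/
def goodGroup (E K : Subgroup Γ) : Subgroup Γ where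
  carrier := {h | h ∈ normalizer (E : Set Γ) ∧ ∀ e ∈ E, e⁻¹ * (h * e * h⁻¹) ∈ K}
  one_mem' := ⟨one_mem _, fun e _ => by simp⟩
  mul_mem' := fun {g h} hg hh => ⟨mul_mem hg.1 hh.1, fun e he => by
    have hk' := hh.2 e he
    have hkE' : e⁻¹ * (h * e * h⁻¹) ∈ E :=
      E.mul_mem (E.inv_mem he) ((mem_normalizer_iff.mp hh.1 e).mp he)
    have h2 : g * (e⁻¹ * (h * e * h⁻¹)) * g⁻¹ ∈ K := by
      have := K.mul_mem hk' (hg.2 _ hkE')
      rwa [mul_inv_cancel_left] at this
    have h3 := K.mul_mem (hg.2 e he) h2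
    convert h3 using 1
    group⟩
  inv_mem' := fun {h} hh => ⟨inv_mem hh.1, fun e he => by
    have he' : h⁻¹ * e * h ∈ E := (mem_normalizer_iff'.mp hh.1 _).mpr (by simpa [mul_assoc] using he)
    have := K.inv_mem (hh.2 _ he')
    simpa [mul_assoc] using this⟩

theorem mem_goodGroup {E K : Subgroup Γ} {h : Γ} :
    h ∈ goodGroup E K ↔ h ∈ normalizer (E : Set Γ) ∧ ∀ e ∈ E, e⁻¹ * (h * e * h⁻¹) ∈ K := Iff.rfl

theorem goodGroup_le_normalizer {E K : Subgroup Γ} (hKE : K ≤ E) [Finite Γ] :
    goodGroup E K ≤ normalizer (K : Set Γ) := by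
  have key : ∀ g ∈ goodGroup E K, ∀ k ∈ K, g * k * g⁻¹ ∈ K := fun g hg k hk => by
    have := K.mul_mem hk (hg.2 k (hKE hk))
    rwa [mul_inv_cancel_left] at this
  intro g hg
  refine mem_normalizer_iff.mpr fun k => ⟨key g hg k, fun hk => ?_⟩
  simpa [mul_assoc] using key g⁻¹ (inv_mem hg) _ hk

theorem normalizer_le_normalizer_map_frattini (Q : Subgroup Γ) :
    normalizer (Q : Set Γ) ≤ normalizer (((frattini Q).map Q.subtype : Subgroup Γ) : Set Γ) := by
  have key : ∀ g ∈ normalizer (Q : Set Γ), ∀ x ∈ (frattini Q).map Q.subtype,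
      g * x * g⁻¹ ∈ (frattini Q).map Q.subtype := by
    rintro g hg _ ⟨x, hx, rfl⟩
    let σ : MulAut Q := Q.normalizerMonoidHom ⟨g, hg⟩
    refine ⟨σ x, ?_, rfl⟩
    have h := (characteristic_iff_map_eq.mp (inferInstance : (frattini Q).Characteristic)) σ
    rw [← h]
    exact mem_map_of_mem _ hx
  intro g hg
  exact mem_normalizer_iff.mpr fun x => ⟨key g hg x, fun hx => by
    simpa [mul_assoc] using key g⁻¹ (inv_mem hg) _ hx⟩

theorem sub_surjective [Finite Γ] {R : Subgroup Γ} {g : Γ} (hg : g ∈ normalizer (R : Set Γ))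
    (hfix : ∀ x ∈ R, g * x = x * g → x = 1) {s : Γ} (hs : s ∈ R) :
    ∃ x ∈ R, x⁻¹ * (g * x * g⁻¹) = s := by
  let f : R → R := fun x => ⟨(x : Γ)⁻¹ * (g * x * g⁻¹),
    R.mul_mem (R.inv_mem x.2) ((mem_normalizer_iff.mp hg _).mp x.2)⟩
  have hf : Function.Injective f := by
    intro a b hab
    have h : (a : Γ)⁻¹ * (g * a * g⁻¹) = (b : Γ)⁻¹ * (g * b * g⁻¹) := congrArg Subtype.val hab
    have h1 : g * ((b : Γ) * (a : Γ)⁻¹) = (b : Γ) * (a : Γ)⁻¹ * g := by
      calc g * ((b : Γ) * (a : Γ)⁻¹) = (b : Γ) * ((b : Γ)⁻¹ * (g * b * g⁻¹)) * g * (a : Γ)⁻¹ := by group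
        _ = (b : Γ) * ((a : Γ)⁻¹ * (g * a * g⁻¹)) * g * (a : Γ)⁻¹ := by rw [h]
        _ = (b : Γ) * (a : Γ)⁻¹ * g := by group
    exact Subtype.ext (mul_inv_eq_one.mp (hfix _ (R.mul_mem b.2 (R.inv_mem a.2)) h1)).symm
  obtain ⟨x, hx⟩ := (Finite.injective_iff_surjective.mp hf) ⟨s, hs⟩
  exact ⟨x, x.2, congrArg Subtype.val hx⟩

variable [Finite Γ] {V : Type*} [CommGroup V] [Finite V] [MulDistribMulAction Γ V]

/-- The hypotheses of the core lemma. -/
structure WardData (A Q R : Subgroup Γ) (p q r : ℕ) : Prop where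
  hp : p.Prime
  hq : q.Prime
  hr : r.Prime
  hqp : q ≠ p
  hrp : r ≠ p
  hrq : r ≠ q
  hQ : IsPGroup q Q
  hR : IsPGroup r R
  hAc : ∀ a ∈ A, ∀ b ∈ A, a * b = b * a
  hAexp : ∀ a ∈ A, a ^ p = 1
  hAcard : Nat.card A = p ^ 2
  hAQ : A ≤ normalizer (Q : Set Γ)
  hAR : A ≤ normalizer (R : Set Γ)
  hRQ : R ≤ normalizer (Q : Set Γ)
  hQA : Q ⊓ centralizer (A : Set Γ) = ⊥
  hRA : R ⊓ centralizer (A : Set Γ) = ⊥
  hnil : ∀ a ∈ A, a ≠ 1 → ∀ x ∈ R, x * a = a * x → ∀ y ∈ Q, y * a = a * y → x * y = y * x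

theorem WardData.eq_of_mem {A : Subgroup Γ} {p : ℕ} (hp : p.Prime) (hexp : ∀ a ∈ A, a ^ p = 1)
    (hcard : Nat.card A = p ^ 2) {S : Subgroup Γ} (hSA : S ≤ A) {a b : Γ} (ha : a ∈ S) (hb : b ∈ S)
    (ha1 : a ≠ 1) (hab : b ∉ zpowers a) : S = A := by
  haveI := Fact.mk hp
  refine eq_of_le_of_card_ge hSA ?_
  obtain ⟨i, hi, hci⟩ := (Nat.dvd_prime_pow hp).mp (hcard ▸ card_dvd_of_le hSA)
  have hlt : zpowers a < S := lt_of_le_of_ne (zpowers_le.mpr ha) fun h => hab (h ▸ hb)
  have h1 : p < Nat.card S := by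
    have h2 : Nat.card (zpowers a) = p := by
      rw [Nat.card_zpowers]; exact orderOf_eq_prime (hexp a (hSA ha)) ha1
    rw [← h2]
    exact lt_of_le_of_ne (card_le_of_le hlt.le) fun h => hlt.ne (eq_of_le_of_card_ge hlt.le h.ge)
  rw [hci] at h1 ⊢
  rw [hcard]
  refine Nat.pow_le_pow_right hp.pos ?_
  by_contra h3
  have : p ^ i ≤ p ^ 1 := Nat.pow_le_pow_right hp.pos (by omega)
  rw [pow_one] at this
  omega

theorem ward_core_aux {A R : Subgroup Γ} {p q r : ℕ} (hfaith : ∀ g : Γ, (∀ v : V, g • v = v) → g = 1)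
    (hcopV : q.Coprime (Nat.card V)) {a : Γ} (ha : a ∈ A) (ha1 : a ≠ 1)
    (hRa : ∀ x ∈ R, x * a = a * x) (n : ℕ) : ∀ Q : Subgroup Γ, Nat.card Q = n → WardData A Q R p q r →
    (∀ b ∈ A, b ≠ 1 → ∀ y ∈ Q, y * b = b * y → ∀ v : V, b • v = v → y • v = v) → ⁅Q, R⁆ = ⊥ := by
  induction n using Nat.strongRecOn with | ind n ih => ?_
  intro Q hn D hQV
  have := Fact.mk D.hq
  have := Fact.mk D.hr
  obtain ⟨eQ, heQ⟩ := IsPGroup.iff_card.mp D.hQ
  obtain ⟨eR, heR⟩ := IsPGroup.iff_card.mp D.hR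
  have hcopQR : (Nat.card R).Coprime (Nat.card Q) := by
    rw [heQ, heR]; exact Nat.Coprime.pow _ _ ((Nat.coprime_primes D.hr D.hq).mpr D.hrq)
  have hcopAQ : (Nat.card A).Coprime (Nat.card Q) := by
    rw [heQ, D.hAcard]; exact Nat.Coprime.pow _ _ ((Nat.coprime_primes D.hp D.hq).mpr D.hqp.symm)
  have hAs : Group.IsSolvable A := Group.isSolvable_of_comm fun x y => Subtype.ext (D.hAc x x.2 y y.2)
  have hQs : Group.IsSolvable Q := by haveI := D.hQ.isNilpotent; infer_instance
  -- smaller subgroups are centralised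
  have hproper : ∀ U : Subgroup Γ, U ≤ Q → U ≠ Q → A ≤ normalizer (U : Set Γ) →
      R ≤ normalizer (U : Set Γ) → ⁅U, R⁆ = ⊥ := by
    intro U hUQ hne hAU hRU
    refine ih _ (hn ▸ lt_of_le_of_ne (card_le_of_le hUQ) fun h => hne (eq_of_le_of_card_ge hUQ h.ge)) U rfl
      { D with
        hQ := D.hQ.to_le hUQ
        hAQ := hAU
        hRQ := hRU
        hQA := eq_bot_iff.mpr (le_trans (inf_le_inf_right _ hUQ) D.hQA.le)
        hnil := fun b hb hb1 x hx hxb y hy hyb => D.hnil b hb hb1 x hx hxb y (hUQ hy) hyb }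
      fun b hb hb1 y hy hyb => hQV b hb hb1 y (hUQ hy) hyb
  have hQR : ⁅Q, R⁆ ≤ Q := commutator_le_of_le_normalizer' D.hRQ
  by_cases hfull : ⁅Q, R⁆ = Q
  swap
  · have hA' : A ≤ normalizer ((⁅Q, R⁆ : Subgroup Γ) : Set Γ) := fun b hb => by
      refine mem_normalizer_of_conj_smul_eq ?_
      show (⁅Q, R⁆).map (MulAut.conj b).toMonoidHom = _
      rw [map_commutator, show Q.map (MulAut.conj b).toMonoidHom = Q from conj_smul_eq_self (D.hAQ hb),
        show R.map (MulAut.conj b).toMonoidHom = R from conj_smul_eq_self (D.hAR hb)]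
    have h1 := hproper _ hQR hfull hA' (right_le_normalizer_commutator Q R)
    rwa [commutator_commutator D.hRQ hcopQR (Or.inr hQs)] at h1
  by_contra hne0
  have hQne : Q ≠ ⊥ := fun h => hne0 (hfull.trans h)
  have hQfix : ∀ y ∈ Q, y * a = a * y → ∀ x ∈ R, x * y = y * x := fun y hy hya x hx =>
    D.hnil a ha ha1 x hx (hRa x hx) y hy hya
  have hgen : ∀ S : Subgroup Γ, (∀ b ∈ A, b ≠ 1 → ∀ y ∈ Q, y * b = b * y → y ∈ S) → Q ≤ S := by
    intro S hS
    rw [← fixGen_eq_of_elementary D.hp D.hAc D.hAexp D.hAcard D.hAQ hcopAQ]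
    exact iSup₂_le fun b hb y hy => hS b hb.1 hb.2 y hy.1 (mem_centralizer_singleton_iff.mp hy.2)
  let F : Subgroup Γ := (frattini Q).map Q.subtype
  have hFQ : F ≤ Q := map_subtype_le _
  have hFne : F ≠ Q := by
    intro h
    have htop : frattini Q = ⊤ := map_injective Q.subtype_injective
      (h.trans (by rw [← MonoidHom.range_eq_map, range_subtype]))
    have : Nontrivial Q := (nontrivial_iff_ne_bot Q).mpr hQne
    obtain ⟨M, hM, -⟩ := (eq_top_or_exists_le_coatom (⊥ : Subgroup Q)).resolve_left bot_ne_top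
    exact hM.1 (top_le_iff.mp (htop ▸ frattini_le_coatom hM))
  have hFA : A ≤ normalizer (F : Set Γ) := D.hAQ.trans (normalizer_le_normalizer_map_frattini Q)
  have hFR : ⁅F, R⁆ = ⊥ := hproper F hFQ hFne hFA (D.hRQ.trans (normalizer_le_normalizer_map_frattini Q))
  -- `F` is central in `Q`
  have hFc : ⁅Q, F⁆ = ⊥ := by
    have hQF : ⁅F, Q⁆ ≤ F := by
      refine commutator_le_of_le_normalizer' ?_
      exact le_normalizer.trans (normalizer_le_normalizer_map_frattini Q)
    have h1 : ⁅⁅F, Q⁆, R⁆ = ⊥ := eq_bot_iff.mpr ((commutator_mono hQF le_rfl).trans hFR.le)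
    have h2 : ⁅⁅R, F⁆, Q⁆ = ⊥ := by rw [commutator_comm R F, hFR, commutator_bot_left]
    have h3 := commutator_commutator_eq_bot_of_rotate (H₁ := Q) (H₂ := R) (H₃ := F) h2 h1
    rwa [hfull] at h3
  have hcomm_of : ∀ e ∈ F, ∀ y ∈ Q, y * e = e * y := fun e he y hy =>
    commutatorElement_eq_one_iff_mul_comm.mp (mem_bot.mp (hFc ▸ commutator_mem_commutator hy he))
  by_cases hF : F = ⊥
  · -- `Q` is elementary abelian
    have hQc : ∀ y ∈ Q, ∀ z ∈ Q, y * z = z * y := fun y hy z hz => by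
      have h1 : (⁅(⟨y, hy⟩ : Q), ⟨z, hz⟩⁆ : Q) ∈ frattini Q :=
        PGroupFrattini.commutator_le_frattini D.hQ (commutator_mem_commutator (mem_top _) (mem_top _))
      have h2 := mem_map_of_mem Q.subtype h1
      rw [show (frattini Q).map Q.subtype = ⊥ from hF, mem_bot, map_commutatorElement] at h2
      exact commutatorElement_eq_one_iff_mul_comm.mp h2
    have hQexp : ∀ y ∈ Q, y ^ q = 1 := fun y hy => by
      have h2 := mem_map_of_mem Q.subtype (PGroupFrattini.pow_mem_frattini D.hQ (⟨y, hy⟩ : Q))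
      rw [show (frattini Q).map Q.subtype = ⊥ from hF, mem_bot, map_pow] at h2
      exact h2
    have hQm : IsMulCommutative Q := ⟨⟨fun y z => Subtype.ext (hQc y y.2 z z.2)⟩⟩
    have hQRbot : (Q ⊓ centralizer (R : Set Γ)) = ⊥ := by
      have h1 := inf_centralizer_inf_commutator D.hRQ hcopQR
      rwa [hfull, inf_eq_left.mpr inf_le_left] at h1
    have hQa : ∀ y ∈ Q, y * a = a * y → y = 1 := fun y hy hya => by
      have : y ∈ Q ⊓ centralizer (R : Set Γ) :=
        ⟨hy, mem_centralizer_iff.mpr fun x hx => hQfix y hy hya x hx⟩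
      rwa [hQRbot, mem_bot] at this
    have hcopQV : (Nat.card Q).Coprime (Nat.card V) := heQ ▸ hcopV.pow_left _
    obtain ⟨K, hKQ, hKq, w, hw, hw1⟩ := exists_piece_ne_bot (V := V) Q D.hq hQexp hQc hcopQV (by
      by_contra! h
      exact hQne ((eq_bot_iff_forall _).mpr fun y hy => hfaith y (h y hy)))
    -- every translate of `K` under `R` has a good element in `A`
    have hgood : ∀ K' : Subgroup Γ, K' ≤ Q → K'.relIndex Q = q → ∀ w' ∈ piece (V := V) Q K', w' ≠ 1 →
        ∃ b ∈ A, b ≠ 1 ∧ b ∈ goodGroup Q K' := by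
      intro K' hK'Q hK'q w' hw' hw'1
      by_contra! hno
      refine hw'1 (pow_injective_of_coprime hcopQV ?_)
      rw [← orbProd_of_fixed Q fun y hy => ?_, hw'.2]
      exact (hgen (MulAction.stabilizer Γ w') fun b hb hb1 z hz hzb =>
        smul_piece_of_not_good Q K' D.hp hcopQV hQc hK'Q hK'q D.hq (D.hAexp b hb) (D.hAQ hb)
          (fun h => hno b hb hb1 ⟨D.hAQ hb, h⟩) hzb (fun e he => hQc z hz e he)
          (fun v hv => hQV b hb hb1 z hz hzb v hv) hw') hy
    obtain ⟨g, hg, hg1, hgK⟩ := hgood K hKQ hKq w hw hw1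
    -- `a` is not good
    have hnota : a ∉ goodGroup Q K := by
      intro hak
      have hzs : Group.IsSolvable (zpowers a) := Group.isSolvable_of_comm fun x y => mul_comm' x y
      have hle : ⁅Q, zpowers a⁆ ≤ K := by
        rw [commutator_le]
        intro y hy c hc
        have := (zpowers_le.mpr hak hc : c ∈ goodGroup Q K).2 y⁻¹ (inv_mem hy)
        simpa [commutatorElement_def, mul_assoc] using this
      have hcz : Q ⊓ centralizer (zpowers a : Set Γ) = ⊥ := (eq_bot_iff_forall _).mpr fun y hy =>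
        hQa y hy.1 (mem_centralizer_iff.mp hy.2 a (mem_zpowers a)).symm
      have h1 := commutator_sup_centralizer ((zpowers_le.mpr ha).trans D.hAQ)
        (hcopAQ.coprime_dvd_left (card_dvd_of_le (zpowers_le.mpr ha))) (Or.inl hzs) (K := Q)
      rw [hcz, sup_bot_eq] at h1
      have : K = Q := le_antisymm hKQ (h1 ▸ hle)
      rw [this, relIndex_self] at hKq
      exact D.hq.one_lt.ne hKq
    have hga : g ∉ zpowers a := fun h => by
      have : zpowers g = zpowers a := eq_of_le_of_card_ge (zpowers_le.mpr h) (by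
        haveI := Fact.mk D.hp
        rw [Nat.card_zpowers, Nat.card_zpowers, orderOf_eq_prime (D.hAexp g hg) hg1,
          orderOf_eq_prime (D.hAexp a ha) ha1])
      exact hnota (zpowers_le.mpr hgK (this ▸ mem_zpowers a))
    have hgfix : ∀ x ∈ R, g * x = x * g → x = 1 := fun x hx hgx => by
      have hS := WardData.eq_of_mem D.hp D.hAexp D.hAcard (S := A ⊓ centralizer {x}) inf_le_left
        (a := a) (b := g) ⟨ha, mem_centralizer_singleton_iff.mpr (hRa x hx).symm⟩
        ⟨hg, mem_centralizer_singleton_iff.mpr hgx⟩ ha1 hga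
      have : x ∈ R ⊓ centralizer (A : Set Γ) := ⟨hx, mem_centralizer_iff.mpr fun b hb =>
        mem_centralizer_singleton_iff.mp ((hS.symm ▸ hb : b ∈ A ⊓ centralizer {x})).2⟩
      rwa [D.hRA, mem_bot] at this
    have hRgood : R ≤ goodGroup Q K := by
      intro s hs
      obtain ⟨x, hx, rfl⟩ := sub_surjective (D.hAR hg) hgfix hs
      -- the translate of `K` by `x`
      let K' : Subgroup Γ := K.map (MulAut.conj x).toMonoidHom
      have hxQ := D.hRQ hx
      have hK'Q : K' ≤ Q := by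
        rintro _ ⟨k, hk, rfl⟩; exact (mem_normalizer_iff.mp hxQ k).mp (hKQ hk)
      have hK'q : K'.relIndex Q = q := by
        have hQQ : Q.map (MulAut.conj x).toMonoidHom = Q := conj_smul_eq_self hxQ
        conv_lhs => rw [← hQQ]
        rw [← hKq]
        exact relIndex_map_map_of_injective K Q (MulAut.conj x).injective
      have hw' : x • w ∈ piece (V := V) Q K' := by
        refine ⟨?_, by rw [orbProd_smul_normalizer Q hxQ, hw.2, smul_one]⟩
        rintro _ ⟨k, hk, rfl⟩
        show (x * k * x⁻¹) • x • w = x • w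
        rw [mul_smul, inv_smul_smul, mul_smul, hw.1 k hk]
      obtain ⟨g', hg', hg'1, hg'K⟩ := hgood K' hK'Q hK'q _ hw'
        (fun h => hw1 (by simpa using congrArg (fun u => x⁻¹ • u) h))
      have hconj : ∀ h ∈ goodGroup Q K', x⁻¹ * h * x ∈ goodGroup Q K := by
        intro h hh
        refine ⟨mul_mem (mul_mem (inv_mem hxQ) hh.1) hxQ, fun e he => ?_⟩
        obtain ⟨k, hk, hk'⟩ := hh.2 (x * e * x⁻¹) ((mem_normalizer_iff.mp hxQ e).mp he)
        have hk2 : x * k * x⁻¹ = (x * e * x⁻¹)⁻¹ * (h * (x * e * x⁻¹) * h⁻¹) := hk'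
        have : e⁻¹ * (x⁻¹ * h * x * e * (x⁻¹ * h * x)⁻¹) = k := by
          calc e⁻¹ * (x⁻¹ * h * x * e * (x⁻¹ * h * x)⁻¹)
              = x⁻¹ * ((x * e * x⁻¹)⁻¹ * (h * (x * e * x⁻¹) * h⁻¹)) * x := by group
            _ = k := by rw [← hk2]; group
        rwa [this]
      have hA2 : zpowers a ⊔ zpowers g = A := WardData.eq_of_mem D.hp D.hAexp D.hAcard
        (sup_le (zpowers_le.mpr ha) (zpowers_le.mpr hg))
        (mem_sup_left (mem_zpowers a)) (mem_sup_right (mem_zpowers g)) ha1 hga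
      have hnz : zpowers a ≤ normalizer (zpowers g : Set Γ) := fun c hc => mem_normalizer_iff.mpr fun y => by
        have hcA : c ∈ A := zpowers_le.mpr ha hc
        constructor
        · intro hy; rw [D.hAc c hcA y (zpowers_le.mpr hg hy), mul_inv_cancel_right]; exact hy
        · intro hy
          have hyA : y ∈ A := by
            have := A.mul_mem (A.mul_mem (A.inv_mem hcA) (zpowers_le.mpr hg hy)) hcA
            simpa [mul_assoc] using this
          rwa [D.hAc c hcA y hyA, mul_inv_cancel_right] at hy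
      obtain ⟨c, hc, d, hd, hcd⟩ := (mem_sup_of_le_normalizer hnz).mp
        (hA2.symm ▸ hg' : g' ∈ zpowers a ⊔ zpowers g)
      have hcA : c ∈ A := zpowers_le.mpr ha hc
      have hdA : d ∈ A := zpowers_le.mpr hg hd
      have hxc : x * c = c * x := by
        obtain ⟨i, rfl⟩ := mem_zpowers_iff.mp hc
        exact (Commute.zpow_right (hRa x hx) i).eq
      have hdK : d ∈ goodGroup Q K := zpowers_le.mpr hgK hd
      -- `c * t` is good, where `t = x⁻¹ d x d⁻¹`
      let t := x⁻¹ * d * x * d⁻¹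
      have htR : t ∈ R := by
        have := R.mul_mem (R.inv_mem hx) ((mem_normalizer_iff.mp (D.hAR hdA) x).mp hx)
        simpa [t, mul_assoc] using this
      have hct : c * t ∈ goodGroup Q K := by
        have h1 := mul_mem (hconj _ hg'K) (inv_mem hdK)
        have h2 : x⁻¹ * g' * x * d⁻¹ = c * t := by
          simp only [t]
          calc x⁻¹ * g' * x * d⁻¹ = x⁻¹ * (c * x) * (x⁻¹ * d * x * d⁻¹) := by rw [← hcd]; group
            _ = c * (x⁻¹ * d * x * d⁻¹) := by rw [← hxc, inv_mul_cancel_left]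
        rwa [h2] at h1
      have hcomct : Commute c t := by
        obtain ⟨i, rfl⟩ := mem_zpowers_iff.mp hc
        exact Commute.zpow_left (hRa t htR).symm i
      obtain ⟨eT, heT⟩ := (D.hR ⟨t, htR⟩)
      have hc1 : c = 1 := by
        by_contra hc1
        apply hnota
        have h2 : c ^ (r ^ eT) ∈ goodGroup Q K := by
          have h3 := pow_mem hct (r ^ eT)
          rwa [hcomct.mul_pow, show t ^ (r ^ eT) = 1 from congrArg Subtype.val heT, mul_one] at h3
        haveI := Fact.mk D.hp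
        have hco : (r ^ eT).Coprime (orderOf c) := by
          rw [orderOf_eq_prime (D.hAexp c hcA) hc1]
          exact Nat.Coprime.pow_left _ ((Nat.coprime_primes D.hr D.hp).mpr D.hrp)
        obtain ⟨m, hm⟩ := exists_pow_eq_self_of_coprime hco
        have h4 : c ∈ goodGroup Q K := hm ▸ pow_mem h2 m
        have h5 : zpowers c = zpowers a := eq_of_le_of_card_ge (zpowers_le.mpr hc) (by
          rw [Nat.card_zpowers, Nat.card_zpowers, orderOf_eq_prime (D.hAexp c hcA) hc1,
            orderOf_eq_prime (D.hAexp a ha) ha1])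
        exact zpowers_le.mpr h4 (h5 ▸ mem_zpowers a)
      subst hc1
      rw [one_mul] at hcd
      subst hcd
      -- so `x⁻¹ d x` is good for the generator `d` of the line of `g`
      have hdg : g ∈ zpowers d := by
        haveI := Fact.mk D.hp
        have : zpowers d = zpowers g := eq_of_le_of_card_ge (zpowers_le.mpr hd) (by
          rw [Nat.card_zpowers, Nat.card_zpowers, orderOf_eq_prime (D.hAexp d hdA) hg'1,
            orderOf_eq_prime (D.hAexp g hg) hg1])
        exact this ▸ mem_zpowers g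
      obtain ⟨i, hi⟩ := mem_zpowers_iff.mp hdg
      have h6 : x⁻¹ * g * x ∈ goodGroup Q K := by
        have h7 := zpow_mem (hconj _ hg'K) i
        have h8 : (x⁻¹ * d * x) ^ i = x⁻¹ * g * x := by
          have h9 := conj_zpow (a := x⁻¹) (b := d) (i := i)
          rw [inv_inv] at h9
          rw [h9, hi]
        rwa [h8] at h7
      have := mul_mem h6 (inv_mem hgK)
      simpa [mul_assoc] using this
    have hle : ⁅Q, R⁆ ≤ K := by
      rw [commutator_le]
      intro y hy c hc
      have := (hRgood hc).2 y⁻¹ (inv_mem hy)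
      simpa [commutatorElement_def, mul_assoc] using this
    have : K = Q := le_antisymm hKQ (hfull ▸ hle)
    rw [this, relIndex_self] at hKq
    exact D.hq.one_lt.ne hKq
  · -- a central elementary abelian subgroup centralised by `R`
    let E : Subgroup Γ :=
      { carrier := {e | e ∈ F ∧ e ^ q = 1}
        one_mem' := ⟨one_mem F, one_pow q⟩
        mul_mem' := fun {x y} hx hy => ⟨mul_mem hx.1 hy.1, by
          rw [Commute.mul_pow (hcomm_of y hy.1 x (hFQ hx.1)), hx.2, hy.2, one_mul]⟩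
        inv_mem' := fun {x} hx => ⟨inv_mem hx.1, by rw [inv_pow, hx.2, inv_one]⟩ }
    have hEQ : E ≤ Q := fun e he => hFQ he.1
    have hEc : ∀ e ∈ E, ∀ y ∈ Q, y * e = e * y := fun e he y hy => hcomm_of e he.1 y hy
    have hEne : E ≠ ⊥ := by
      intro h
      have : Nontrivial F := (nontrivial_iff_ne_bot F).mpr hF
      obtain ⟨i, hi⟩ := IsPGroup.iff_card.mp (D.hQ.to_le hFQ)
      obtain ⟨x, hx⟩ := exists_prime_orderOf_dvd_card' (G := F) q (by
        rw [hi]; exact dvd_pow_self q (by rintro rfl; simp at hi; exact hF hi))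
      have hxE : (x : Γ) ∈ E := ⟨x.2, by rw [← hx, ← orderOf_coe, pow_orderOf_eq_one]⟩
      rw [h, mem_bot] at hxE
      rw [← orderOf_coe, hxE, orderOf_one] at hx
      exact D.hq.one_lt.ne hx
    have hAE : A ≤ normalizer (E : Set Γ) := fun b hb => mem_normalizer_iff.mpr fun e => by
      have hbF := mem_normalizer_iff.mp (hFA hb) e
      constructor
      · rintro ⟨h1, h2⟩
        exact ⟨hbF.mp h1, by rw [conj_pow, h2, mul_one, mul_inv_cancel]⟩
      · rintro ⟨h1, h2⟩
        refine ⟨hbF.mpr h1, ?_⟩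
        rw [conj_pow, mul_inv_eq_one] at h2
        exact mul_eq_left.mp h2
    have hER : ∀ e ∈ E, ∀ x ∈ R, x * e = e * x := fun e he x hx =>
      (commutatorElement_eq_one_iff_mul_comm.mp (mem_bot.mp (hFR ▸ commutator_mem_commutator he.1 hx))).symm
    have hcopEV : (Nat.card E).Coprime (Nat.card V) := by
      obtain ⟨i, hi⟩ := IsPGroup.iff_card.mp (D.hQ.to_le hEQ)
      rw [hi]; exact hcopV.pow_left _
    have hEcc : ∀ e ∈ E, ∀ e' ∈ E, e * e' = e' * e := fun e he e' he' => hEc e' he' e (hEQ he)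
    obtain ⟨K, hKE, hKq, w, hw, hw1⟩ := exists_piece_ne_bot (V := V) E D.hq (fun e he => he.2) hEcc
      hcopEV (by
      by_contra! h
      exact hEne ((eq_bot_iff_forall _).mpr fun y hy => hfaith y (h y hy)))
    let QW : Subgroup Γ :=
      { carrier := {y | y ∈ Q ∧ ∀ u ∈ piece (V := V) E K, y • u = u}
        one_mem' := ⟨one_mem Q, fun u _ => one_smul Γ u⟩
        mul_mem' := fun {y z} hy hz => ⟨mul_mem hy.1 hz.1, fun u hu => by rw [mul_smul, hz.2 u hu, hy.2 u hu]⟩
        inv_mem' := fun {y} hy => ⟨inv_mem hy.1, fun u hu => by rw [inv_smul_eq_iff, hy.2 u hu]⟩ }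
    -- stable under everything normalising `Q`, `E` and `K`
    have hQWn : ∀ h : Γ, h ∈ normalizer (Q : Set Γ) → h ∈ normalizer (E : Set Γ) →
        h ∈ normalizer (K : Set Γ) → ∀ y ∈ QW, h * y * h⁻¹ ∈ QW := by
      intro h h1 h2 h3 y hy
      refine ⟨(mem_normalizer_iff.mp h1 y).mp hy.1, fun u hu => ?_⟩
      rw [mul_smul, mul_smul, hy.2 _ (smul_piece E K (inv_mem h2) (inv_mem h3) hu), smul_inv_smul]
    have hcent : ∀ h : Γ, (∀ e ∈ E, h * e = e * h) → ∀ L ≤ E, h ∈ normalizer (L : Set Γ) := by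
      intro h hh L hL
      refine mem_normalizer_iff.mpr fun e => ⟨fun he => by rwa [hh e (hL he), mul_inv_cancel_right],
        fun he => ?_⟩
      have h2 := hh _ (hL he)
      have : e = h * e * h⁻¹ := by
        calc e = h⁻¹ * (h * e * h⁻¹ * h) := by group
          _ = h * e * h⁻¹ := by rw [← h2]; group
      rwa [this]
    have hQnQW : ∀ z ∈ Q, ∀ y ∈ QW, z * y * z⁻¹ ∈ QW := fun z hz =>
      hQWn z (le_normalizer hz) (hcent z (fun e he => hEc e he z hz) E le_rfl)
        (hcent z (fun e he => hEc e he z hz) K hKE)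
    have hRnQW : ∀ x ∈ R, ∀ y ∈ QW, x * y * x⁻¹ ∈ QW := fun x hx =>
      hQWn x (D.hRQ hx) (hcent x (fun e he => hER e he x hx) E le_rfl)
        (hcent x (fun e he => hER e he x hx) K hKE)
    have hbad : ∀ b ∈ A, b ≠ 1 → b ∉ goodGroup E K → ∀ y ∈ Q, y * b = b * y → y ∈ QW :=
      fun b hb hb1 hng y hy hyb => ⟨hy, fun u hu =>
        smul_piece_of_not_good E K D.hp hcopEV hEcc hKE hKq D.hq (D.hAexp b hb) (hAE hb)
          (fun h => hng ⟨hAE hb, h⟩) hyb (fun e he => hEc e he y hy)
          (fun v hv => hQV b hb hb1 y hy hyb v hv) hu⟩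
    -- not all of `A` is good
    have hnotall : ¬ A ≤ goodGroup E K := by
      intro hall
      have hle : ⁅E, A⁆ ≤ K := by
        rw [commutator_le]
        intro y hy c hc
        have := (hall hc).2 y⁻¹ (inv_mem hy)
        simpa [commutatorElement_def, mul_assoc] using this
      have hcz : E ⊓ centralizer (A : Set Γ) = ⊥ :=
        eq_bot_iff.mpr (le_trans (inf_le_inf_right _ hEQ) D.hQA.le)
      have h1 := commutator_sup_centralizer hAE (hcopAQ.coprime_dvd_right (card_dvd_of_le hEQ))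
        (Or.inl hAs) (K := E)
      rw [hcz, sup_bot_eq] at h1
      have : K = E := le_antisymm hKE (h1 ▸ hle)
      rw [this, relIndex_self] at hKq
      exact D.hq.one_lt.ne hKq
    have hQQW : Q ≤ QW := by
      by_cases hex : ∃ g ∈ A, g ≠ 1 ∧ g ∈ goodGroup E K
      swap
      · push_neg at hex
        exact hgen QW fun b hb hb1 y hy hyb => hbad b hb hb1 (hex b hb hb1) y hy hyb
      obtain ⟨g, hg, hg1, hgK⟩ := hex
      have honly : ∀ b ∈ A, b ∈ goodGroup E K → b ∈ zpowers g := fun b hb hbK => by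
        by_contra hbg
        exact hnotall (le_of_eq_of_le (WardData.eq_of_mem D.hp D.hAexp D.hAcard
          (S := A ⊓ goodGroup E K) inf_le_left (a := g) (b := b) ⟨hg, hgK⟩ ⟨hb, hbK⟩ hg1 hbg).symm inf_le_right)
      have hline : ∀ b ∈ A, b ≠ 1 → b ∈ zpowers g → ∀ y, y * b = b * y → y * g = g * y := by
        intro b hb hb1 hbg y hyb
        haveI := Fact.mk D.hp
        have : zpowers b = zpowers g := eq_of_le_of_card_ge (zpowers_le.mpr hbg) (by
          rw [Nat.card_zpowers, Nat.card_zpowers, orderOf_eq_prime (D.hAexp b hb) hb1,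
            orderOf_eq_prime (D.hAexp g hg) hg1])
        obtain ⟨i, hi⟩ := mem_zpowers_iff.mp (this ▸ mem_zpowers g)
        rw [← hi]
        exact (Commute.zpow_right hyb i).eq
      -- it suffices that `[Q, R] ≤ QW`
      suffices ⁅Q, R⁆ ≤ QW from hfull ▸ this
      by_cases hga : g ∈ zpowers a
      · let T : Subgroup Γ :=
          { carrier := {y | y ∈ Q ∧ ∀ x ∈ R, ⁅y, x⁆ ∈ QW}
            one_mem' := ⟨one_mem Q, fun x _ => by simp [one_mem]⟩
            mul_mem' := fun {y z} hy hz => ⟨mul_mem hy.1 hz.1, fun x hx => by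
              have h1 := mul_mem (hQnQW y hy.1 _ (hz.2 x hx)) (hy.2 x hx)
              convert h1 using 1
              simp only [commutatorElement_def]; group⟩
            inv_mem' := fun {y} hy => ⟨inv_mem hy.1, fun x hx => by
              have h1 := hQnQW y⁻¹ (inv_mem hy.1) _ (inv_mem (hy.2 x hx))
              convert h1 using 1
              simp only [commutatorElement_def]; group⟩ }
        have hQT : Q ≤ T := hgen T fun b hb hb1 y hy hyb => by
          by_cases hbK : b ∈ goodGroup E K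
          · refine ⟨hy, fun x hx => ?_⟩
            have hya : y * a = a * y := by
              haveI := Fact.mk D.hp
              have : zpowers g = zpowers a := eq_of_le_of_card_ge (zpowers_le.mpr hga) (by
                rw [Nat.card_zpowers, Nat.card_zpowers, orderOf_eq_prime (D.hAexp a ha) ha1,
                  orderOf_eq_prime (D.hAexp g hg) hg1])
              obtain ⟨i, hi⟩ := mem_zpowers_iff.mp (this ▸ mem_zpowers a)
              rw [← hi]
              exact (Commute.zpow_right (hline b hb hb1 (honly b hb hbK) y hyb) i).eq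
            rw [commutatorElement_eq_one_iff_mul_comm.mpr (hQfix y hy hya x hx).symm]
            exact one_mem _
          · refine ⟨hy, fun x hx => ?_⟩
            have hyW := hbad b hb hb1 hbK y hy hyb
            have h1 := mul_mem hyW (hRnQW x hx _ (inv_mem hyW))
            convert h1 using 1
            simp only [commutatorElement_def]; group
        exact commutator_le.mpr fun y hy x hx => (hQT hy).2 x hx
      · have hgn : ∀ y ∈ QW, g * y * g⁻¹ ∈ QW :=
          hQWn g (D.hAQ hg) (hAE hg) (goodGroup_le_normalizer hKE hgK)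
        let T : Subgroup Γ :=
          { carrier := {y | y ∈ Q ∧ y⁻¹ * (g * y * g⁻¹) ∈ QW}
            one_mem' := ⟨one_mem Q, by simp [one_mem]⟩
            mul_mem' := fun {y z} hy hz => ⟨mul_mem hy.1 hz.1, by
              have h1 := mul_mem (hQnQW z⁻¹ (inv_mem hz.1) _ hy.2) hz.2
              convert h1 using 1
              group⟩
            inv_mem' := fun {y} hy => ⟨inv_mem hy.1, by
              have h1 := hQnQW y hy.1 _ (inv_mem hy.2)
              convert h1 using 1
              group⟩ }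
        have hQT : Q ≤ T := hgen T fun b hb hb1 y hy hyb => by
          by_cases hbK : b ∈ goodGroup E K
          · refine ⟨hy, ?_⟩
            rw [← (hline b hb hb1 (honly b hb hbK) y hyb), mul_inv_cancel_right, inv_mul_cancel]
            exact one_mem _
          · have hyW := hbad b hb hb1 hbK y hy hyb
            exact ⟨hy, mul_mem (inv_mem hyW) (hgn y hyW)⟩
        have hga' : a ∉ zpowers g := fun h => hga (by
          haveI := Fact.mk D.hp
          have : zpowers a = zpowers g := eq_of_le_of_card_ge (zpowers_le.mpr h) (by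
            rw [Nat.card_zpowers, Nat.card_zpowers, orderOf_eq_prime (D.hAexp a ha) ha1,
              orderOf_eq_prime (D.hAexp g hg) hg1])
          exact this ▸ mem_zpowers g)
        have hgfix : ∀ x ∈ R, g * x = x * g → x = 1 := fun x hx hgx => by
          have hS := WardData.eq_of_mem D.hp D.hAexp D.hAcard (S := A ⊓ centralizer {x}) inf_le_left
            (a := g) (b := a) ⟨hg, mem_centralizer_singleton_iff.mpr hgx⟩
            ⟨ha, mem_centralizer_singleton_iff.mpr (hRa x hx).symm⟩ hg1 hga'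
          have : x ∈ R ⊓ centralizer (A : Set Γ) := ⟨hx, mem_centralizer_iff.mpr fun b hb =>
            mem_centralizer_singleton_iff.mp ((hS.symm ▸ hb : b ∈ A ⊓ centralizer {x})).2⟩
          rwa [D.hRA, mem_bot] at this
        rw [commutator_le]
        intro y hy s hs
        -- it is enough that `s y s⁻¹ y⁻¹ ∈ QW`
        obtain ⟨x, hx, rfl⟩ := sub_surjective (D.hAR hg) hgfix hs
        have hd := (hQT hy).2
        have hz := (hQT ((mem_normalizer_iff.mp (D.hRQ hx) y).mp hy)).2
        have hsR : x⁻¹ * (g * x * g⁻¹) ∈ R :=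
          R.mul_mem (R.inv_mem hx) ((mem_normalizer_iff.mp (D.hAR hg) x).mp hx)
        have h1 := mul_mem (hRnQW x⁻¹ (inv_mem hx) _ hz) (hRnQW _ hsR _ (inv_mem hd))
        have h2 := inv_mem (hQnQW y hy _ h1)
        convert h2 using 1
        simp only [commutatorElement_def]; group
    refine hw1 (pow_injective_of_coprime hcopEV ?_)
    rw [← orbProd_of_fixed E fun e he => (hQQW (hEQ he)).2 w hw, hw.2]

/-- The core of Ward's theorem. -/
theorem ward_core {A Q R : Subgroup Γ} {p q r : ℕ} (hfaith : ∀ g : Γ, (∀ v : V, g • v = v) → g = 1)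
    (hcopV : q.Coprime (Nat.card V)) (D : WardData A Q R p q r)
    (hQV : ∀ b ∈ A, b ≠ 1 → ∀ y ∈ Q, y * b = b * y → ∀ v : V, b • v = v → y • v = v) : ⁅Q, R⁆ = ⊥ := by
  have := Fact.mk D.hr
  obtain ⟨eR, heR⟩ := IsPGroup.iff_card.mp D.hR
  have hcop : (Nat.card A).Coprime (Nat.card R) := by
    rw [heR, D.hAcard]; exact Nat.Coprime.pow _ _ ((Nat.coprime_primes D.hp D.hr).mpr D.hrp.symm)
  rw [commutator_comm, commutator_eq_bot_iff_le_centralizer,
    ← fixGen_eq_of_elementary D.hp D.hAc D.hAexp D.hAcard D.hAR hcop]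
  refine iSup₂_le fun b hb => ?_
  have hRb : R ⊓ centralizer {b} ≤ R := inf_le_left
  have hn : A ≤ normalizer ((R ⊓ centralizer {b} : Subgroup Γ) : Set Γ) := fun c hc => by
    have key : ∀ c ∈ A, ∀ x ∈ R ⊓ centralizer {b}, c * x * c⁻¹ ∈ R ⊓ centralizer {b} := by
      intro c hc x hx
      refine ⟨(mem_normalizer_iff.mp (D.hAR hc) x).mp hx.1, mem_centralizer_singleton_iff.mpr ?_⟩
      have h1 : x * b = b * x := mem_centralizer_singleton_iff.mp hx.2
      calc c * x * c⁻¹ * b = c * x * (c⁻¹ * b) := by group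
        _ = c * (x * b) * c⁻¹ := by rw [D.hAc c⁻¹ (inv_mem hc) b hb.1]; group
        _ = (c * b) * x * c⁻¹ := by rw [h1]; group
        _ = b * (c * x * c⁻¹) := by rw [D.hAc c hc b hb.1]; group
    exact mem_normalizer_iff.mpr fun x => ⟨key c hc x, fun hx => by
      simpa [mul_assoc] using key c⁻¹ (inv_mem hc) _ hx⟩
  have h := ward_core_aux hfaith hcopV hb.1 hb.2
    (fun x hx => mem_centralizer_singleton_iff.mp (inf_le_right (a := R) hx)) _ Q rfl
    { D with
      hR := D.hR.to_le hRb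
      hAR := hn
      hRQ := hRb.trans D.hRQ
      hRA := eq_bot_iff.mpr (le_trans (inf_le_inf_right _ hRb) D.hRA.le)
      hnil := fun c hc hc1 x hx hxc => D.hnil c hc hc1 x (hRb hx) hxc } hQV
  rw [← commutator_eq_bot_iff_le_centralizer, commutator_comm]
  exact h

end Cfsg.Agent.Lib.FitHeight
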